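import Cfsg.Agent.Lib.CharTools.Basic
import Cfsg.Agent.Lib.Char.Clifford
import Cfsg.Agent.Lib.Solvable.CoprimeAction
import Mathlib.GroupTheory.PGroup

/-!
Irreducible characters which are nonzero on exactly two conjugacy classes.
-/

set_option autoImplicit false

open scoped ComplexConjugate
open CfsgLib.Char

namespace CfsgLib.Gagola

universe u

variable {G : Type u} [Group G] [Finite G]

/-- `χ` is nonzero exactly on `N`, whose nonidentity elements form the class of `c`. -/
structure TwoClass (χ : Cfsg.IrrCharacter G) (c : G) (N : Subgroup G) : Prop where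
  ne_one : c ≠ 1
  mem : c ∈ N
  isConj : ∀ x ∈ N, x ≠ 1 → IsConj c x
  support : ∀ x, (χ : G → ℂ) x ≠ 0 ↔ x ∈ N
  normal : N.Normal
  kernel : ∀ ψ : Cfsg.IrrCharacter G, ψ ≠ χ ↔ ∀ x ∈ N, (ψ : G → ℂ) x = (ψ : G → ℂ) 1
  value : (χ : G → ℂ) c * ((Nat.card N : ℂ) - 1) = -(χ : G → ℂ) 1

theorem exists_twoClass (hG : 2 < Nat.card G) (χ : Cfsg.IrrCharacter G)
    (hχ : Nat.card {C : ConjClasses G // ∃ g ∈ C.carrier, (χ : G → ℂ) g ≠ 0} = 2) :
    ∃ c N, TwoClass χ c N := by
  classical
  cases nonempty_fintype G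
  have hclass := IsIrrCharacter.isClassFunction χ.2
  have hd := CharTools.irr_apply_one_ne_zero χ
  let T := {C : ConjClasses G // ∃ g ∈ C.carrier, (χ : G → ℂ) g ≠ 0}
  let one : T := ⟨ConjClasses.mk 1, 1, ConjClasses.mem_carrier_mk, hd⟩
  obtain ⟨⟨C, g, hg, hga⟩, hne, hall⟩ : ∃ b : T, b ≠ one ∧ ∀ z, z = one ∨ z = b := by
    obtain ⟨y, z, hyz, huniv⟩ := Nat.card_eq_two_iff.mp hχ
    have hcov : ∀ w : T, w = y ∨ w = z := fun w => by
      have hw : w ∈ ({y, z} : Set T) := huniv ▸ Set.mem_univ w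
      simpa using hw
    rcases hcov one with h | h
    · exact ⟨z, fun e => hyz (h.symm.trans e.symm), fun w => h ▸ hcov w⟩
    · exact ⟨y, fun e => hyz (e.trans h), fun w => h ▸ (hcov w).symm⟩
  rw [ConjClasses.mem_carrier_iff_mk_eq] at hg
  subst hg
  have hg1 : g ≠ 1 := fun h => hne (Subtype.ext (congrArg ConjClasses.mk h))
  have hsupp : ∀ x, (χ : G → ℂ) x ≠ 0 → x = 1 ∨ IsConj g x := by
    intro x hx
    rcases hall ⟨ConjClasses.mk x, x, ConjClasses.mem_carrier_mk, hx⟩ with h | h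
    · refine Or.inl ?_
      have := congrArg Subtype.val h
      exact isConj_one_left.mp (ConjClasses.mk_eq_mk_iff_isConj.mp this)
    · exact Or.inr (ConjClasses.mk_eq_mk_iff_isConj.mp (congrArg Subtype.val h)).symm
  have hval : ∀ x, IsConj g x → (χ : G → ℂ) x = (χ : G → ℂ) g := fun x h =>
    (IsClassFunction.eq_of_isConj hclass h).symm
  set C : Finset G := Finset.univ.filter fun x => IsConj g x with hC
  have h1C : (1 : G) ∉ C := fun h => hg1 (isConj_one_left.mp (Finset.mem_filter.mp h).2)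
  have hsum : ∀ f : G → ℂ, Cfsg.IsClassFunction G f →
      ∑ x, (χ : G → ℂ) x * f x = (χ : G → ℂ) 1 * f 1 + (C.card : ℂ) * ((χ : G → ℂ) g * f g) := by
    intro f hf
    rw [← Finset.sum_subset (Finset.subset_univ (insert 1 C))
      (fun x _ hx => by
        by_cases h0 : (χ : G → ℂ) x = 0
        · rw [h0, zero_mul]
        · exfalso
          rcases hsupp x h0 with h | h
          · exact hx (Finset.mem_insert.mpr (Or.inl h))
          · exact hx (Finset.mem_insert.mpr (Or.inr (Finset.mem_filter.mpr ⟨Finset.mem_univ _, h⟩)))),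
      Finset.sum_insert h1C, Finset.sum_congr rfl (fun x hx => by
        rw [hval x (Finset.mem_filter.mp hx).2,
          ← IsClassFunction.eq_of_isConj hf (Finset.mem_filter.mp hx).2]),
      Finset.sum_const, nsmul_eq_mul]
  have horth : ∀ ψ : Cfsg.IrrCharacter G, ψ ≠ χ →
      (χ : G → ℂ) 1 * (ψ : G → ℂ) 1 + (C.card : ℂ) * ((χ : G → ℂ) g * conj ((ψ : G → ℂ) g)) = 0 := by
    intro ψ hψ
    have h := classInner_irr_of_ne χ.2 ψ.2 fun e => hψ (Subtype.ext e.symm)
    rw [Cfsg.classInner, mul_eq_zero] at h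
    have h' := h.resolve_left (inv_ne_zero (Nat.cast_ne_zero.mpr Nat.card_pos.ne'))
    rw [hsum (fun x => conj ((ψ : G → ℂ) x))
      (fun a b => by simp only [IsIrrCharacter.isClassFunction ψ.2 a b])] at h'
    rwa [CharTools.conj_apply_one (IsIrrCharacter.isCharacter ψ.2)] at h'
  have hprin : (principalIrr (G := G)) ≠ χ := by
    intro h
    -- otherwise there are only two classes
    have hcov : ∀ x : G, x ≠ 1 → IsConj g x := fun x hx =>
      (hsupp x (by rw [← h]; exact one_ne_zero)).resolve_left hx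
    have h1 := card_isConj_mul_card_centralizer g
    have h2 : Nat.card {x : G // IsConj g x} + 1 = Nat.card G := by
      rw [← Nat.card_congr (Equiv.subtypeEquivRight fun x : G =>
        (⟨fun h => hcov x h, fun hx e => hg1 (isConj_one_left.mp (e ▸ hx))⟩ : x ≠ 1 ↔ IsConj g x))]
      rw [Nat.card_eq_fintype_card, Nat.card_eq_fintype_card, Fintype.card_subtype_compl,
        Fintype.card_subtype_eq]
      have := Fintype.card_pos (α := G)
      omega
    rw [← h2] at h1 hG
    set t := Nat.card {x : G // IsConj g x}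
    have : t ∣ 1 := (Nat.dvd_add_right dvd_rfl).mp (Dvd.intro _ h1)
    have := Nat.le_of_dvd one_pos this
    omega
  have hval1 : (C.card : ℂ) * (χ : G → ℂ) g = -(χ : G → ℂ) 1 := by
    have := horth _ hprin
    simp only [principalIrr_apply, map_one, mul_one] at this
    exact eq_neg_of_add_eq_zero_right this
  have hker : ∀ ψ : Cfsg.IrrCharacter G, ψ ≠ χ → (ψ : G → ℂ) g = (ψ : G → ℂ) 1 := by
    intro ψ hψ
    have h := horth ψ hψ
    rw [← mul_assoc, hval1, neg_mul, ← sub_eq_add_neg, ← mul_sub, mul_eq_zero] at h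
    have h2 := congrArg conj (sub_eq_zero.mp (h.resolve_left hd))
    rw [Complex.conj_conj, CharTools.conj_apply_one (IsIrrCharacter.isCharacter ψ.2)] at h2
    exact h2.symm
  let N : Subgroup G :=
    { carrier := {x | ∀ ψ : Cfsg.IrrCharacter G, ψ ≠ χ → (ψ : G → ℂ) x = (ψ : G → ℂ) 1}
      one_mem' := fun _ _ => rfl
      mul_mem' := fun {a b} ha hb ψ hψ => by
        rw [CharTools.mul_ker (IsIrrCharacter.isCharacter ψ.2) (hb ψ hψ) a]
        exact ha ψ hψ
      inv_mem' := fun {a} ha ψ hψ => by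
        rw [IsIrrCharacter.apply_inv ψ.2, ha ψ hψ, CharTools.conj_apply_one (IsIrrCharacter.isCharacter ψ.2)] }
  have hNnormal : N.Normal := ⟨fun x hx a ψ hψ => by
    rw [IsIrrCharacter.isClassFunction ψ.2 x a]
    exact hx ψ hψ⟩
  have hgN : g ∈ N := hker
  have hNconj : ∀ x ∈ N, x ≠ 1 → IsConj g x := by
    intro x hx hx1
    refine (hsupp x fun h0 => ?_).resolve_left hx1
    have h1 := sum_apply_one_mul x
    rw [if_neg hx1, ← Finset.add_sum_erase _ _ (Finset.mem_univ χ), h0, mul_zero, zero_add,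
      Finset.sum_congr rfl (fun ψ hψ => by
        rw [hx ψ (Finset.ne_of_mem_erase hψ), ← CharTools.irr_degree_cast])] at h1
    have h2 : ∑ ψ ∈ Finset.univ.erase χ, Cfsg.charDegree (ψ : G → ℂ) * Cfsg.charDegree (ψ : G → ℂ) = 0 := by
      exact_mod_cast h1
    have h3 := Finset.sum_eq_zero_iff.mp h2 principalIrr (Finset.mem_erase.mpr ⟨hprin, Finset.mem_univ _⟩)
    exact mul_ne_zero (CharTools.irr_degree_pos _).ne' (CharTools.irr_degree_pos _).ne' h3
  have hmemN : ∀ x, x ∈ N ↔ x ∈ insert 1 C := by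
    intro x
    rw [Finset.mem_insert, hC, Finset.mem_filter]
    refine ⟨fun hx => (em (x = 1)).imp id fun h => ⟨Finset.mem_univ _, hNconj x hx h⟩, ?_⟩
    rintro (rfl | ⟨-, h⟩)
    · exact one_mem N
    · obtain ⟨a, rfl⟩ := isConj_iff.mp h
      exact hNnormal.conj_mem g hgN a
  have hcard : (Nat.card N : ℂ) - 1 = (C.card : ℂ) := by
    have h1 : Nat.card N = C.card + 1 := by
      rw [← Finset.card_insert_of_notMem h1C, Nat.card_congr (Equiv.subtypeEquivRight hmemN),
        Nat.card_eq_fintype_card, Fintype.card_coe]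
    rw [h1]; push_cast; ring
  have hsuppN : ∀ x, (χ : G → ℂ) x ≠ 0 ↔ x ∈ N := by
    intro x
    refine ⟨fun hx => (hmemN x).mpr ?_, fun hx => ?_⟩
    · rcases hsupp x hx with h | h
      · simp [h]
      · exact Finset.mem_insert.mpr (Or.inr (Finset.mem_filter.mpr ⟨Finset.mem_univ _, h⟩))
    · rcases eq_or_ne x 1 with rfl | h
      · exact hd
      · rw [hval x (hNconj x hx h)]; exact hga
  refine ⟨g, N, hg1, hgN, hNconj, hsuppN, hNnormal, fun ψ => ⟨fun hψ x hx => hx ψ hψ, ?_⟩,
    by rw [hcard, mul_comm]; exact hval1⟩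
  rintro hψ rfl
  -- the value of `χ` at `g` differs from its degree
  have h1 := hval1
  rw [hψ g hgN] at h1
  have h2 : (((C.card + 1 : ℕ)) : ℂ) * (ψ : G → ℂ) 1 = 0 := by push_cast; linear_combination h1
  exact mul_ne_zero (Nat.cast_ne_zero.mpr (Nat.succ_ne_zero _)) hd h2

namespace TwoClass

variable {χ : Cfsg.IrrCharacter G} {c : G} {N : Subgroup G}

theorem ne_bot (h : TwoClass χ c N) : N ≠ ⊥ := fun e => h.ne_one (by
  have := h.mem; rwa [e, Subgroup.mem_bot] at this)

omit [Finite G] in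
theorem eq_subgroup (h : TwoClass χ c N) {N' : Subgroup G} (h' : ∀ g, g ∈ N' ↔ (χ : G → ℂ) g ≠ 0) :
    N' = N :=
  Subgroup.ext fun g => (h' g).trans (h.support g)

theorem faithful (h : TwoClass χ c N) (x : G) (hx : (χ : G → ℂ) x = (χ : G → ℂ) 1) : x = 1 := by
  have hxN : x ∈ N := (h.support x).mp (by rw [hx]; exact CharTools.irr_apply_one_ne_zero χ)
  by_contra hne
  refine (h.kernel χ).mpr ?_ rfl
  intro y hy
  rcases eq_or_ne y 1 with rfl | hy1
  · rfl
  · rw [IsClassFunction.eq_of_isConj (IsIrrCharacter.isClassFunction χ.2)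
      ((h.isConj y hy hy1).symm.trans (h.isConj x hxN hne)), hx]

theorem le_of_normal (h : TwoClass χ c N) (K : Subgroup G) (hK : K.Normal) (hK1 : K ≠ ⊥) : N ≤ K := by
  classical
  suffices hc : c ∈ K by
    intro x hx
    rcases eq_or_ne x 1 with rfl | hx1
    · exact one_mem K
    · obtain ⟨a, rfl⟩ := isConj_iff.mp (h.isConj x hx hx1)
      exact hK.conj_mem c hc a
  rw [← QuotientGroup.eq_one_iff, ← isConj_one_left (a := (c : G ⧸ K))]
  refine isConj_of_forall_eq fun ψ hψ => ?_
  let φ : Cfsg.IrrCharacter G :=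
    ⟨_, CharTools.isIrrCharacter_comp (QuotientGroup.mk' K) (QuotientGroup.mk'_surjective K) hψ⟩
  have hφ : φ ≠ χ := by
    intro e
    obtain ⟨k, hk, hk1⟩ := K.bot_or_exists_ne_one.resolve_left hK1
    refine hk1 (h.faithful k ?_)
    rw [← e]
    simp [φ, (QuotientGroup.eq_one_iff k).mpr hk]
  simpa [φ] using (h.kernel φ).mp hφ c h.mem

theorem orderOf_prime (h : TwoClass χ c N) :
    ∃ p : ℕ, p.Prime ∧ ∀ x ∈ N, x ≠ 1 → orderOf x = p := by
  obtain ⟨p, hp, hpd⟩ := Nat.exists_prime_and_dvd (mt orderOf_eq_one_iff.mp h.ne_one)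
  have hconst : ∀ x ∈ N, x ≠ 1 → orderOf x = orderOf c := fun x hx hx1 => by
    obtain ⟨a, rfl⟩ := isConj_iff.mp (h.isConj x hx hx1)
    exact orderOf_injective (MulAut.conj a).toMonoidHom (MulEquiv.injective _) c
  have h1 := orderOf_pow_orderOf_div (orderOf_pos c).ne' hpd
  rw [hconst _ (pow_mem h.mem _) (fun e => by rw [e, orderOf_one] at h1; exact hp.one_lt.ne h1)] at h1
  exact ⟨p, hp, fun x hx hx1 => (hconst x hx hx1).trans h1⟩

theorem isPGroup (h : TwoClass χ c N) :
    ∃ p : ℕ, p.Prime ∧ IsPGroup p N := by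
  obtain ⟨p, hp, hord⟩ := h.orderOf_prime
  refine ⟨p, hp, fun x => ⟨1, ?_⟩⟩
  rw [pow_one]
  rcases eq_or_ne x 1 with rfl | hx
  · exact one_pow _
  · refine Subtype.ext ?_
    rw [← hord x x.2 fun e => hx (Subtype.ext e)]
    exact pow_orderOf_eq_one (x : G)

theorem pow_eq_one (h : TwoClass χ c N) {p : ℕ} [Fact p.Prime] (hp : IsPGroup p N) {x : G}
    (hx : x ∈ N) : x ^ p = 1 := by
  obtain ⟨q, hq, hord⟩ := h.orderOf_prime
  rcases eq_or_ne x 1 with rfl | hx1
  · exact one_pow _
  obtain ⟨k, hk⟩ := hp ⟨x, hx⟩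
  have h1 : q ∣ p ^ k := hord x hx hx1 ▸ orderOf_dvd_of_pow_eq_one (congrArg Subtype.val hk)
  rw [← (Nat.prime_dvd_prime_iff_eq hq Fact.out).mp (hq.dvd_of_dvd_pow h1), ← hord x hx hx1]
  exact pow_orderOf_eq_one x

theorem comm (h : TwoClass χ c N) {p : ℕ} [Fact p.Prime] (hp : IsPGroup p N) {x y : G}
    (hx : x ∈ N) (hy : y ∈ N) : x * y = y * x := by
  have := h.normal
  have : Nontrivial N := (Subgroup.nontrivial_iff_ne_bot N).mpr h.ne_bot
  have hZ := IsPGroup.center_nontrivial hp
  have hne : (Subgroup.center N).map N.subtype ≠ ⊥ := by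
    rw [Ne, Subgroup.map_eq_bot_iff_of_injective _ N.subtype_injective]
    exact (Subgroup.nontrivial_iff_ne_bot _).mp hZ
  have hle := h.le_of_normal _ inferInstance hne
  obtain ⟨z, hz, hzx⟩ := hle hx
  have := Subgroup.mem_center_iff.mp hz ⟨y, hy⟩
  rw [← hzx]
  exact (congrArg Subtype.val this).symm

theorem card_centralizer_of_notMem (h : TwoClass χ c N) [N.Normal] {x : G} (hx : x ∉ N) :
    Nat.card (Subgroup.centralizer ({x} : Set G)) =
      Nat.card (Subgroup.centralizer ({(x : G ⧸ N)} : Set (G ⧸ N))) := by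
  classical
  cases nonempty_fintype G
  have : Fintype {ψ : Cfsg.IrrCharacter G // ∀ n ∈ N, (ψ : G → ℂ) n = (ψ : G → ℂ) 1} := Fintype.ofFinite _
  have h0 : (χ : G → ℂ) x = 0 := not_not.mp fun e => hx ((h.support x).mp e)
  have h1 := sum_mul_conj x x
  rw [if_pos (IsConj.refl x), ← Finset.add_sum_erase _ _ (Finset.mem_univ χ), h0, zero_mul, zero_add,
    Finset.sum_subtype (Finset.univ.erase χ) (F := this) (p := fun ψ : Cfsg.IrrCharacter G => ∀ n ∈ N, (ψ : G → ℂ) n = (ψ : G → ℂ) 1)
      (fun ψ => by rw [Finset.mem_erase, ← h.kernel ψ]; simp)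
      (fun ψ => (ψ : G → ℂ) x * conj ((ψ : G → ℂ) x)),
    CharTools.sum_quotient_mul_conj, if_pos (IsConj.refl _)] at h1
  exact_mod_cast h1.symm

theorem index_centralizer (h : TwoClass χ c N) :
    (Subgroup.centralizer ({c} : Set G)).index + 1 = Nat.card N := by
  classical
  cases nonempty_fintype G
  rw [index_centralizer_eq_card_isConj]
  have h1 : Nat.card {x : G // IsConj c x} = Nat.card {n : N // n ≠ 1} := by
    refine Nat.card_congr
      { toFun := fun x => ⟨⟨x.1, ?_⟩, ?_⟩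
        invFun := fun n => ⟨(n.1 : G), h.isConj _ n.1.2 fun e => n.2 (Subtype.ext e)⟩
        left_inv := fun x => rfl
        right_inv := fun n => rfl }
    · obtain ⟨a, ha⟩ := isConj_iff.mp x.2
      exact ha ▸ h.normal.conj_mem c h.mem a
    · intro e
      have e' : (x.1 : G) = 1 := congrArg Subtype.val e
      exact h.ne_one (isConj_one_left.mp (e' ▸ x.2))
  have := Fintype.ofFinite N
  rw [h1, Nat.card_eq_fintype_card, Nat.card_eq_fintype_card, Fintype.card_subtype_compl,
    Fintype.card_subtype_eq]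
  have := Fintype.card_pos (α := N)
  omega

theorem not_dvd_index_centralizer (h : TwoClass χ c N) {p : ℕ} [Fact p.Prime] (hp : IsPGroup p N)
    {x : G} (hx : x ∈ N) (hx1 : x ≠ 1) : ¬ p ∣ (Subgroup.centralizer ({x} : Set G)).index := by
  intro hd
  have he : (Subgroup.centralizer ({x} : Set G)).index = (Subgroup.centralizer ({c} : Set G)).index := by
    rw [index_centralizer_eq_card_isConj, index_centralizer_eq_card_isConj]
    exact Nat.card_congr (Equiv.subtypeEquivRight fun y =>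
      ⟨fun e => (h.isConj x hx hx1).trans e, fun e => (h.isConj x hx hx1).symm.trans e⟩)
  obtain ⟨n, hn⟩ := IsPGroup.iff_card.mp hp
  have hn0 : n ≠ 0 := fun e => h.ne_bot (Subgroup.eq_bot_of_card_eq _ (by rw [hn, e, pow_zero]))
  have h1 := h.index_centralizer
  rw [← he, hn] at h1
  exact (Fact.out : p.Prime).one_lt.ne' (Nat.dvd_one.mp ((Nat.dvd_add_right hd).mp
    (h1 ▸ dvd_pow_self p hn0)))

/-- An element of prime order different from `p` centralises no nonidentity element of `N`. -/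
theorem eq_one_of_commute (h : TwoClass χ c N) {p : ℕ} [Fact p.Prime] (hp : IsPGroup p N) {x y : G}
    (hx : x ∈ N) (hy : ¬ p ∣ orderOf y) (hy1 : y ≠ 1) (hxy : x * y = y * x) : x = 1 := by
  classical
  by_contra hx1
  have := h.normal
  obtain ⟨n, hn⟩ := IsPGroup.iff_card.mp hp
  have hcop : (Nat.card (Subgroup.zpowers y)).Coprime (Nat.card N) := by
    rw [Nat.card_zpowers, hn]
    exact Nat.Coprime.pow_right _ ((Nat.Prime.coprime_iff_not_dvd Fact.out).mpr hy).symm
  have hdis : Disjoint (Subgroup.zpowers y) N := Subgroup.disjoint_of_coprime_natCard hcop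
  have hyN : y ∉ N := fun e => hy1 (Subgroup.disjoint_def.mp hdis (Subgroup.mem_zpowers y) e)
  have hcard := h.card_centralizer_of_notMem hyN
  let f : Subgroup.centralizer ({y} : Set G) →* Subgroup.centralizer ({(y : G ⧸ N)} : Set (G ⧸ N)) :=
    { toFun := fun u => ⟨((u : G) : G ⧸ N), Subgroup.mem_centralizer_singleton_iff.mpr (by
        rw [← QuotientGroup.mk_mul, ← QuotientGroup.mk_mul, Subgroup.mem_centralizer_singleton_iff.mp u.2])⟩
      map_one' := rfl
      map_mul' := fun a b => rfl }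
  have hsurj : Function.Surjective f := by
    rintro ⟨v, hv⟩
    obtain ⟨u, rfl⟩ := QuotientGroup.mk_surjective v
    have hu : (u : G ⧸ N) * y = y * u := Subgroup.mem_centralizer_singleton_iff.mp hv
    obtain ⟨d, hd, hnorm⟩ := CfsgLib.Solvable.exists_mul_mem_normalizer (A := Subgroup.zpowers y) (D := N)
      (le_trans le_top (Subgroup.normalizer_eq_top (H := N)).ge) hcop
      (Or.inl (Group.isSolvable_of_comm fun a b => by
        obtain ⟨a', i, rfl⟩ := a
        obtain ⟨b', j, rfl⟩ := b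
        exact Subtype.ext (Commute.zpow_zpow_self y i j).eq)) (x := u) (by
        rintro a ⟨k, rfl⟩
        rw [← QuotientGroup.eq_one_iff]
        simp only [QuotientGroup.mk_mul, QuotientGroup.mk_inv, QuotientGroup.mk_zpow]
        rw [← ((show Commute (u : G ⧸ N) y from hu).zpow_right k).eq, mul_inv_cancel_right,
          inv_mul_cancel])
    have hw : u * d * y * (u * d)⁻¹ ∈ Subgroup.zpowers y :=
      (Subgroup.mem_normalizer_iff.mp hnorm y).mp (Subgroup.mem_zpowers y)
    have hwN : u * d * y * (u * d)⁻¹ * y⁻¹ ∈ N := by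
      rw [← QuotientGroup.eq_one_iff]
      simp only [QuotientGroup.mk_mul, QuotientGroup.mk_inv, (QuotientGroup.eq_one_iff d).mpr hd, mul_one]
      rw [hu, mul_inv_cancel_right, mul_inv_cancel]
    have he := Subgroup.disjoint_def.mp hdis
      (mul_mem hw (inv_mem (Subgroup.mem_zpowers y))) hwN
    rw [mul_inv_eq_one, mul_inv_eq_iff_eq_mul] at he
    refine ⟨⟨u * d, Subgroup.mem_centralizer_singleton_iff.mpr he⟩, Subtype.ext ?_⟩
    show ((u * d : G) : G ⧸ N) = u
    rw [QuotientGroup.mk_mul_of_mem u hd]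
  have hinj := ((Nat.bijective_iff_surjective_and_card f).mpr ⟨hsurj, hcard⟩).1
  have h2 := @hinj ⟨x, Subgroup.mem_centralizer_singleton_iff.mpr hxy⟩ 1
    (Subtype.ext ((QuotientGroup.eq_one_iff x).mpr hx))
  exact hx1 (congrArg Subtype.val h2)

theorem isPGroup_centralizer (h : TwoClass χ c N) {p : ℕ} [Fact p.Prime] (hp : IsPGroup p N)
    {x : G} (hx : x ∈ N) (hx1 : x ≠ 1) : IsPGroup p (Subgroup.centralizer ({x} : Set G)) := by
  refine IsPGroup.iff_card.mpr ⟨_, Nat.eq_prime_pow_of_unique_prime_dvd Nat.card_pos.ne' ?_⟩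
  intro q hq hdvd
  by_contra hne
  have := Fact.mk hq
  obtain ⟨⟨y, hy⟩, hyo⟩ := exists_prime_orderOf_dvd_card' (G := Subgroup.centralizer ({x} : Set G)) q hdvd
  rw [Subgroup.orderOf_mk] at hyo
  refine hx1 (h.eq_one_of_commute hp hx (y := y) ?_ ?_ (Subgroup.mem_centralizer_singleton_iff.mp hy).symm)
  · rw [hyo]
    exact fun e => hne ((Nat.prime_dvd_prime_iff_eq Fact.out hq).mp e).symm
  · intro e
    rw [e, orderOf_one] at hyo
    exact hq.one_lt.ne hyo

theorem exists_sylow_centralizer (h : TwoClass χ c N) {p : ℕ} [Fact p.Prime] (hp : IsPGroup p N)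
    {x : G} (hx : x ∈ N) (hx1 : x ≠ 1) :
    ∃ P : Sylow p G, Subgroup.centralizer ({x} : Set G) = P :=
  ⟨(h.isPGroup_centralizer hp hx hx1).toSylow (h.not_dvd_index_centralizer hp hx hx1),
    (IsPGroup.toSylow_coe _ _).symm⟩

/-- The inertia group of a nonprincipal character of `N` is a Sylow subgroup. -/
theorem exists_sylow_inertia (h : TwoClass χ c N) [N.Normal] {p : ℕ} [Fact p.Prime] (hp : IsPGroup p N)
    (μ : Cfsg.IrrCharacter N) (hμ : (μ : N → ℂ) ≠ fun _ => 1) :
    ∃ P : Sylow p G, (P : Subgroup G) = CharTwist.inertia N (μ : N → ℂ) := by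
  classical
  cases nonempty_fintype G
  have := Fintype.ofFinite N
  have hconst : ∀ n : N, (n : G) ≠ 1 → (χ : G → ℂ) n = (χ : G → ℂ) c := fun n hn =>
    (IsClassFunction.eq_of_isConj (IsIrrCharacter.isClassFunction χ.2) (h.isConj _ n.2 hn)).symm
  have hne : ∀ ν : Cfsg.IrrCharacter N, (ν : N → ℂ) ≠ (fun _ => 1) →
      Cfsg.classInner (fun n : N => (χ : G → ℂ) n) (ν : N → ℂ) ≠ 0 := by
    intro ν hν h0
    have hsplit : (fun n : N => (χ : G → ℂ) n) = ((χ : G → ℂ) c) • (fun _ : N => (1 : ℂ)) +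
        ((χ : G → ℂ) 1 - (χ : G → ℂ) c) • (fun n : N => if n = 1 then (1 : ℂ) else 0) := by
      funext n
      by_cases hn : n = 1
      · simp [hn]
      · simp [hn, hconst n fun e => hn (Subtype.ext e)]
    rw [hsplit, classInner_add_left, classInner_smul_left, classInner_smul_left,
      classInner_irr_of_ne isIrrCharacter_principal ν.2 hν.symm, mul_zero, zero_add, mul_eq_zero] at h0
    rcases h0 with h0 | h0
    · exact h.ne_one (h.faithful c (sub_eq_zero.mp h0).symm)
    · simp [Cfsg.classInner, CharTools.irr_apply_one_ne_zero ν] at h0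
  have horb : Clifford.orbit N (μ : N → ℂ) =
      ((Finset.univ : Finset (Cfsg.IrrCharacter N)).erase principalIrr).image Subtype.val := by
    ext f
    rw [Clifford.mem_orbit, Finset.mem_image]
    constructor
    · rintro ⟨a, rfl⟩
      refine ⟨⟨_, CharTwist.isIrrCharacter_conjFun N μ.2 a⟩, Finset.mem_erase.mpr ⟨?_, Finset.mem_univ _⟩, rfl⟩
      intro e
      apply hμ
      have e' : CharTwist.conjFun N (μ : N → ℂ) a = fun _ => 1 := congrArg Subtype.val e
      have h2 := congrArg (fun f => CharTwist.conjFun N f a⁻¹) e'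
      simp only [← CharTwist.conjFun_mul, mul_inv_cancel, CharTwist.conjFun_one] at h2
      exact h2
    · rintro ⟨ν, hν, rfl⟩
      exact Clifford.exists_conjFun_eq N χ.2 μ.2 ν.2 (hne μ hμ)
        (hne ν fun e => Finset.ne_of_mem_erase hν (Subtype.ext e))
  have hidx : (CharTwist.inertia N (μ : N → ℂ)).index + 1 = Nat.card N := by
    rw [← Clifford.card_orbit, horb, Finset.card_image_of_injective _ Subtype.val_injective,
      Finset.card_erase_add_one (Finset.mem_univ _), Finset.card_univ, ← Nat.card_eq_fintype_card,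
      card_irrCharacter]
    have hcomm : ∀ a b : N, a * b = b * a := fun a b => Subtype.ext (h.comm hp a.2 b.2)
    refine (Nat.card_congr (Equiv.ofBijective ConjClasses.mk ⟨?_, Quotient.mk_surjective⟩)).symm
    intro a b hab
    obtain ⟨t, ht⟩ := isConj_iff.mp (ConjClasses.mk_eq_mk_iff_isConj.mp hab)
    rwa [hcomm t a, mul_inv_cancel_right] at ht
  obtain ⟨P, hP⟩ := h.exists_sylow_centralizer hp h.mem h.ne_one
  have hi : (CharTwist.inertia N (μ : N → ℂ)).index = (P : Subgroup G).index := by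
    have := h.index_centralizer
    rw [← hP]; omega
  have hPI : IsPGroup p (CharTwist.inertia N (μ : N → ℂ)) := by
    refine IsPGroup.iff_card.mpr ⟨_, ((Nat.eq_of_mul_eq_mul_right ?_
      ((Subgroup.card_mul_index _).trans (P : Subgroup G).card_mul_index.symm |>.trans (by rw [← hi]))).trans
        P.card_eq_multiplicity)⟩
    exact Nat.pos_of_ne_zero Subgroup.index_ne_zero_of_finite
  exact ⟨hPI.toSylow (hi ▸ P.not_dvd_index), IsPGroup.toSylow_coe _ _⟩

end TwoClass

end CfsgLib.Gagola
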