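import Mathlib

/-!
A finite commutative group acting without fixed points on a nontrivial finite abelian group is cyclic.
-/

namespace CfsgLib.Gagola

universe v

theorem isCyclic_of_fpf_addEnd {B : Type*} [CommGroup B] [Finite B] :
    ∀ (n : ℕ) {V : Type v} [AddCommGroup V] [Finite V] [Nontrivial V], Nat.card V ≤ n →
      ∀ f : B →* AddMonoid.End V, (∀ b, b ≠ 1 → ∀ v, f b v = v → v = 0) → IsCyclic B := by
  intro n
  induction n with
  | zero =>
      intro V _ _ _ hn
      have : 0 < Nat.card V := Nat.card_pos
      omega
  | succ n ih =>
      intro V _ _ _ hn f hf
      set R : Subring (AddMonoid.End V) := Subring.closure (Set.range f) with hR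
      have hcomm : IsMulCommutative R := Subring.isMulCommutative_closure (by
        rintro _ ⟨a, rfl⟩ _ ⟨b, rfl⟩
        rw [← map_mul, ← map_mul, mul_comm])
      have hfR : ∀ b, f b ∈ R := fun b => Subring.subset_closure ⟨b, rfl⟩
      by_cases hdom : ∀ r ∈ R, r ≠ 0 → ∀ v, r v = 0 → v = 0
      · open scoped IsMulCommutative in
        have : Nontrivial (AddMonoid.End V) := by
          obtain ⟨v, hv⟩ := exists_ne (0 : V)
          exact ⟨1, 0, fun h => hv (by simpa using congrArg (fun e : AddMonoid.End V => e v) h)⟩
        have : Nontrivial R := ⟨1, 0, fun h => one_ne_zero (congrArg Subtype.val h)⟩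
        have : NoZeroDivisors R := ⟨fun {a b} hab => by
          by_contra hc
          push Not at hc
          refine hc.2 (Subtype.ext (AddMonoidHom.ext fun v => ?_))
          refine hdom a a.2 (fun h => hc.1 (Subtype.ext h)) _ ?_
          exact congrArg (fun e : R => (e : AddMonoid.End V) v) hab⟩
        have : IsDomain R := NoZeroDivisors.to_isDomain R
        refine isCyclic_of_injective_ringHom (f.codRestrict R hfR) ?_
        rw [injective_iff_map_eq_one]
        intro b hb
        by_contra hb1
        obtain ⟨v, hv⟩ := exists_ne (0 : V)
        exact hv (hf b hb1 v (congrArg (fun e : R => (e : AddMonoid.End V) v) hb))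
      · push Not at hdom
        obtain ⟨r, hrR, hr0, v, hv, hv0⟩ := hdom
        let K : AddSubgroup V := r.ker
        have hK : ∀ b, ∀ w ∈ K, f b w ∈ K := by
          intro b w hw
          have hc : r * f b = f b * r := setLike_mul_comm (s := R) hrR (hfR b)
          change r (f b w) = 0
          have := congrArg (fun e : AddMonoid.End V => e w) hc
          change r (f b w) = f b (r w) at this
          rw [this, show r w = 0 from hw, map_zero]
        have : Nontrivial K := ⟨⟨v, hv⟩, 0, fun h => hv0 (congrArg Subtype.val h)⟩
        have hlt : Nat.card K < Nat.card V := by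
          refine Nat.lt_of_le_of_ne (Nat.card_le_card_of_injective _ Subtype.val_injective) fun heq => hr0 ?_
          have := AddSubgroup.eq_top_of_card_eq K heq
          ext w
          have hw : w ∈ K := by rw [this]; trivial
          exact hw
        let g : B →* AddMonoid.End K :=
          { toFun := fun b =>
              { toFun := fun w => ⟨f b w, hK b w w.2⟩
                map_zero' := Subtype.ext (map_zero (f b))
                map_add' := fun a c => Subtype.ext (map_add (f b) _ _) }
            map_one' := by ext w; change ((f 1) (w : V)) = _; rw [map_one]; rfl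
            map_mul' := fun a c => by ext w; change ((f (a * c)) (w : V)) = _; rw [map_mul]; rfl }
        exact ih (V := K) (by omega) g fun b hb w hw =>
          Subtype.ext (hf b hb w (congrArg Subtype.val hw))

end CfsgLib.Gagola
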