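import Mathlib
import Cfsg.Agent.Lib.Gagola.FpfAbelian

/-!
A finite solvable group without nontrivial normal `p`-subgroup which acts transitively on the
nonidentity elements of an elementary abelian `p`-group, all point stabilisers being `p`-groups,
has a derived subgroup of order prime to `p`.
-/

namespace CfsgLib.Gagola

universe u v

/-- The hypotheses on the action. -/
structure TransSetting {A : Type u} [Group A] {N : Type v} [CommGroup N] (p : ℕ)
    (φ : A →* MulAut N) : Prop where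
  prime : p.Prime
  nontriv : Nontrivial N
  exp : ∀ x : N, x ^ p = 1
  trans : ∀ x y : N, x ≠ 1 → y ≠ 1 → ∃ a : A, φ a x = y
  stab : ∀ (a : A) (x : N), x ≠ 1 → φ a x = x → ∃ k : ℕ, a ^ p ^ k = 1
  core : ∀ M : Subgroup A, M.Normal → IsPGroup p M → M = ⊥

theorem mul_pow_of_central {A : Type*} [Monoid A] (w y e : A) (h : y * w = e * (w * y))
    (hw : Commute e w) (hy : Commute e y) (n : ℕ) :
    (w * y) ^ n = e ^ n.choose 2 * (w ^ n * y ^ n) := by
  have hyn : ∀ n : ℕ, y ^ n * w = e ^ n * (w * y ^ n) := by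
    intro n
    induction n with
    | zero => simp
    | succ n ih =>
        rw [pow_succ, mul_assoc, h, ← mul_assoc, ← (hy.pow_right n).eq, mul_assoc, ← mul_assoc (y ^ n) w y,
          ih, pow_succ' e]
        simp only [mul_assoc]
  induction n with
  | zero => simp
  | succ n ih =>
      rw [pow_succ, ih, Nat.choose_succ_succ', Nat.choose_one_right, pow_add, (Commute.pow_pow (Commute.refl e) n _).eq]
      calc e ^ n.choose 2 * (w ^ n * y ^ n) * (w * y)
          = e ^ n.choose 2 * (w ^ n * (y ^ n * w) * y) := by simp only [mul_assoc]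
        _ = e ^ n.choose 2 * (w ^ n * (e ^ n * (w * y ^ n)) * y) := by rw [hyn]
        _ = e ^ n.choose 2 * (e ^ n * (w ^ n * w * (y ^ n * y))) := by
              rw [← mul_assoc (w ^ n) (e ^ n), ← (hw.pow_pow n n).eq]; simp only [mul_assoc]
        _ = e ^ n.choose 2 * e ^ n * (w ^ (n + 1) * y ^ (n + 1)) := by
              rw [← pow_succ, ← pow_succ]; simp only [mul_assoc]

theorem conj_pow_left {A : Type*} [Group A] {x y c : A} (h : x * y * x⁻¹ = c * y) (hx : Commute c x) :
    ∀ m : ℕ, x ^ m * y * (x ^ m)⁻¹ = c ^ m * y := by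
  intro m
  induction m with
  | zero => simp
  | succ m ih =>
      calc x ^ (m + 1) * y * (x ^ (m + 1))⁻¹ = x ^ m * (x * y * x⁻¹) * (x ^ m)⁻¹ := by
            rw [pow_succ, mul_inv_rev]; group
        _ = x ^ m * c * y * (x ^ m)⁻¹ := by rw [h]; group
        _ = c * (x ^ m * y * (x ^ m)⁻¹) := by
            rw [← (hx.pow_right m).eq]; simp only [mul_assoc]
        _ = c ^ (m + 1) * y := by rw [ih, ← mul_assoc, ← pow_succ']

theorem conj_pow_right {A : Type*} [Group A] {x y c : A} (h : x * y * x⁻¹ = c * y) (hy : Commute c y)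
    (n : ℕ) : x * y ^ n * x⁻¹ = c ^ n * y ^ n := by
  rw [← conj_pow, h, hy.mul_pow]

/-- A quaternion pair. -/
structure QPair {A : Type u} [Group A] (i j c : A) : Prop where
  ne : c ≠ 1
  sq : c * c = 1
  ii : i * i = c
  jj : j * j = c
  ji : j * i = c * (i * j)

namespace QPair

variable {A : Type u} [Group A] {i j c : A}

theorem inv_c (hQ : QPair i j c) : c⁻¹ = c := inv_eq_of_mul_eq_one_right hQ.sq
theorem comm_i (hQ : QPair i j c) : Commute c i := by
  show c * i = i * c
  rw [← hQ.ii, mul_assoc]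
theorem comm_j (hQ : QPair i j c) : Commute c j := by
  show c * j = j * c
  rw [← hQ.jj, mul_assoc]
theorem not_comm (hQ : QPair i j c) : ¬ Commute i j := fun h =>
  hQ.ne (by have := hQ.ji; rw [h.eq] at this; exact mul_eq_right.mp this.symm)
theorem kk (hQ : QPair i j c) : (i * j) * (i * j) = c := by
  calc (i * j) * (i * j) = i * (j * i) * j := by group
    _ = i * c * (i * j) * j := by rw [hQ.ji]; group
    _ = c * (i * i) * (j * j) := by rw [← hQ.comm_i.eq]; group
    _ = c := by rw [hQ.ii, hQ.jj, hQ.sq, one_mul]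

end QPair

namespace TransSetting

variable {A : Type u} [Group A] [Finite A] {N : Type v} [CommGroup N] [Finite N] {p : ℕ}
  {φ : A →* MulAut N}

omit [Finite A] [Finite N] in
theorem eq_one_of_fix (h : TransSetting p φ) {a : A} (ha : ¬ p ∣ orderOf a) {x : N} (hx : x ≠ 1)
    (hax : φ a x = x) : a = 1 := by
  obtain ⟨k, hk⟩ := h.stab a x hx hax
  obtain ⟨l, -, hl⟩ := (Nat.dvd_prime_pow h.prime).mp (orderOf_dvd_of_pow_eq_one hk)
  rcases Nat.eq_zero_or_pos l with rfl | hl0
  · exact orderOf_eq_one_iff.mp (by simpa using hl)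
  · exact absurd (hl ▸ dvd_pow_self p hl0.ne') ha

theorem isCyclic (h : TransSetting p φ) (B : Subgroup A)
    (hc : ∀ a ∈ B, ∀ b ∈ B, a * b = b * a) (hp : ∀ a ∈ B, ¬ p ∣ orderOf a) : IsCyclic B := by
  let I : CommGroup B := { (inferInstance : Group B) with mul_comm := fun a b => Subtype.ext (hc a a.2 b b.2) }
  have := h.nontriv
  let f : B →* AddMonoid.End (Additive N) :=
    { toFun := fun b => MonoidHom.toAdditive (φ b).toMonoidHom
      map_one' := by ext x; show Additive.ofMul ((φ (1 : A)) x.toMul) = x; simp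
      map_mul' := fun a b => by ext x; show Additive.ofMul ((φ ((a : A) * b)) x.toMul) = _; rw [map_mul]; rfl }
  refine @isCyclic_of_fpf_addEnd B I inferInstance _ (Additive N) _ _ _ le_rfl f ?_
  intro b hb x hx
  by_contra hx0
  exact hb (Subtype.ext (h.eq_one_of_fix (hp b b.2) (x := x.toMul) hx0 hx))

theorem pGroup_not (h : TransSetting p φ) {Z : Subgroup A} [Z.Normal]
    (hc : ∀ a ∈ Z, ∀ b ∈ Z, a * b = b * a) {a : A} (ha : a ∈ Z) : ¬ p ∣ orderOf a := by
  intro hdvd
  let M : Subgroup A :=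
    { carrier := {x | x ∈ Z ∧ x ^ p = 1}
      one_mem' := ⟨one_mem _, one_pow _⟩
      mul_mem' := fun {x y} hx hy => ⟨mul_mem hx.1 hy.1, by
        have hxy : Commute x y := hc x hx.1 y hy.1
        rw [hxy.mul_pow, hx.2, hy.2, one_mul]⟩
      inv_mem' := fun {x} hx => ⟨inv_mem hx.1, by rw [inv_pow, hx.2, inv_one]⟩ }
  have hn : M.Normal := ⟨fun x hx g => ⟨(inferInstance : Z.Normal).conj_mem x hx.1 g, by
    rw [conj_pow, hx.2]; group⟩⟩
  have hb := h.core M hn (fun x => ⟨1, Subtype.ext (by simpa using x.2.2)⟩)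
  have ho := orderOf_pow_orderOf_div (orderOf_pos a).ne' hdvd
  have : a ^ (orderOf a / p) ∈ M := ⟨pow_mem ha _, by rw [← pow_mul, Nat.div_mul_cancel hdvd, pow_orderOf_eq_one]⟩
  rw [hb, Subgroup.mem_bot] at this
  rw [this, orderOf_one] at ho
  exact h.prime.one_lt.ne ho

theorem not_dvd_of_pow {s : ℕ} (hs : s.Prime) (h : TransSetting p φ) (hsp : s ≠ p) {a : A} {m : ℕ}
    (ha : a ^ s ^ m = 1) : ¬ p ∣ orderOf a := fun hd =>
  hsp ((Nat.prime_dvd_prime_iff_eq h.prime hs).mp
    (h.prime.dvd_of_dvd_pow (hd.trans (orderOf_dvd_of_pow_eq_one ha)))).symm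

theorem comparable (h : TransSetting p φ) {s : ℕ} (hs : s.Prime) (hsp : s ≠ p) {a b : A} {m : ℕ}
    (ha : a ^ s ^ m = 1) (hb : b ^ s ^ m = 1) (hab : Commute a b) :
    a ∈ Submonoid.powers b ∨ b ∈ Submonoid.powers a := by
  set B := Subgroup.closure ({a, b} : Set A) with hB
  have hcent : IsMulCommutative B := Subgroup.isMulCommutative_closure (by
    rintro x (rfl | rfl) y (rfl | rfl)
    exacts [rfl, hab, hab.symm, rfl])
  have hcm : ∀ x ∈ B, ∀ y ∈ B, x * y = y * x := fun x hx y hy => setLike_mul_comm hx hy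
  have hexp : ∀ x ∈ B, x ^ s ^ m = 1 := by
    intro x hx
    induction hx using Subgroup.closure_induction with
    | mem x hx => rcases hx with rfl | rfl <;> assumption
    | one => exact one_pow _
    | mul x y hx hy ihx ihy => rw [Commute.mul_pow (hcm x hx y hy), ihx, ihy, one_mul]
    | inv x _ ih => rw [inv_pow, ih, inv_one]
  have := h.isCyclic B hcm fun x hx => h.not_dvd_of_pow hs hsp (hexp x hx)
  obtain ⟨⟨g, hg⟩, hgen⟩ := IsCyclic.exists_generator (α := B)
  have hg' : ∀ x ∈ B, x ∈ Subgroup.zpowers g := fun x hx => by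
    obtain ⟨k, hk⟩ := Subgroup.mem_zpowers_iff.mp (hgen ⟨x, hx⟩)
    exact Subgroup.mem_zpowers_iff.mpr ⟨k, by simpa using congrArg Subtype.val hk⟩
  have haB : a ∈ B := Subgroup.subset_closure (by simp)
  have hbB : b ∈ B := Subgroup.subset_closure (by simp)
  by_contra hcon
  push Not at hcon
  have key : ∀ x y : A, x ∈ B → y ∈ B → y ∉ Submonoid.powers x → x ∈ Subgroup.zpowers (g ^ s) := by
    intro x y hx hy hxy
    obtain ⟨k, hk⟩ := mem_powers_iff_mem_zpowers.mpr (hg' x hx)
    by_cases hks : s ∣ k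
    · obtain ⟨l, rfl⟩ := hks
      rw [← hk]
      show g ^ (s * l) ∈ _
      rw [pow_mul]
      exact pow_mem (Subgroup.mem_zpowers _) _
    · exfalso
      obtain ⟨e, he⟩ : ∃ e, x ^ e = g := by
        subst hk
        exact exists_pow_eq_self_of_coprime
          ((Nat.Coprime.pow_left m ((hs.coprime_iff_not_dvd).mpr hks)).symm.coprime_dvd_right
            (orderOf_dvd_of_pow_eq_one (hexp g hg)))
      obtain ⟨l, hl⟩ := mem_powers_iff_mem_zpowers.mpr (hg' y hy)
      exact hxy ⟨e * l, by show x ^ (e * l) = y; rw [pow_mul, he]; exact hl⟩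
  have hle : B ≤ Subgroup.zpowers (g ^ s) := (Subgroup.closure_le _).mpr (by
    rintro x (rfl | rfl)
    · exact key _ _ haB hbB hcon.2
    · exact key _ _ hbB haB hcon.1)
  have hgs := hle hg
  obtain ⟨k, hk⟩ := mem_powers_iff_mem_zpowers.mpr hgs
  have hk1 : (g ^ s) ^ k = g := hk
  by_cases hg1 : g = 1
  · exact hcon.1 ⟨0, by
      show b ^ 0 = a
      have := hg' a haB
      rw [hg1] at this
      simpa [eq_comm] using this⟩
  · have hd : s ∣ orderOf g := by
      obtain ⟨l, -, hl⟩ := (Nat.dvd_prime_pow hs).mp (orderOf_dvd_of_pow_eq_one (hexp g hg))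
      rcases Nat.eq_zero_or_pos l with rfl | hl0
      · exact absurd (orderOf_eq_one_iff.mp (by simpa using hl)) hg1
      · exact hl ▸ dvd_pow_self s hl0.ne'
    have h1 : g ^ (s * k) = g ^ 1 := by rw [pow_mul, pow_one]; exact hk1
    have h2 := (pow_eq_pow_iff_modEq.mp h1).of_dvd hd
    have h3 : s ∣ 1 := (Nat.modEq_zero_iff_dvd).mp (h2.symm.trans (Nat.modEq_zero_iff_dvd.mpr (Dvd.intro k rfl)))
    exact hs.one_lt.ne' (Nat.dvd_one.mp h3)

theorem eq_of_sq_eq_one (h : TransSetting p φ) (hp2 : 2 ≠ p) {a b : A} (ha : a * a = 1)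
    (hb : b * b = 1) (hab : Commute a b) (ha1 : a ≠ 1) (hb1 : b ≠ 1) : a = b := by
  have ha' : a ^ 2 ^ 1 = 1 := by rw [pow_one, sq, ha]
  have hb' : b ^ 2 ^ 1 = 1 := by rw [pow_one, sq, hb]
  have key : ∀ x y : A, x * x = 1 → y ≠ 1 → y ∈ Submonoid.powers x → y = x := by
    rintro x _ hx hy ⟨k, rfl⟩
    change x ^ k = x
    obtain ⟨l, rfl | rfl⟩ := Nat.even_or_odd' k
    · exact absurd (show x ^ (2 * l) = 1 by rw [pow_mul, sq, hx, one_pow]) hy
    · rw [pow_succ, pow_mul, sq, hx, one_pow, one_mul]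
  rcases h.comparable Nat.prime_two hp2 ha' hb' hab with h' | h'
  · exact key b a hb ha1 h'
  · exact (key a b ha hb1 h').symm

/-- Inside a normal subgroup that centralises the maximal abelian normal subgroup `Z` without being
contained in it, and has commutators in `Z`, there is a quaternion pair whose centre lies in `Z`. -/
theorem exists_qpair (h : TransSetting p φ) {Z E : Subgroup A} [Z.Normal]
    (hZc : ∀ a ∈ Z, ∀ b ∈ Z, a * b = b * a) (hEZ : ∀ e ∈ E, ∀ z ∈ Z, e * z = z * e)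
    (hEE : ∀ e ∈ E, ∀ f ∈ E, e * f * e⁻¹ * f⁻¹ ∈ Z)
    (hnc : ∃ e ∈ E, ∃ f ∈ E, e * f ≠ f * e) :
    2 ≠ p ∧ ∃ i ∈ E, ∃ j ∈ E, ∃ c ∈ Z, QPair i j c := by
  obtain ⟨x, hx, y, hy, hxy⟩ := hnc
  set d := x * y * x⁻¹ * y⁻¹ with hd
  have hdZ : d ∈ Z := hEE x hx y hy
  have hd1 : d ≠ 1 := fun h1 => hxy (by
    calc x * y = d * (y * x) := by rw [hd]; group
      _ = y * x := by rw [h1, one_mul])
  obtain ⟨s, hs, hsd⟩ := Nat.exists_prime_and_dvd (mt orderOf_eq_one_iff.mp hd1)
  have := Fact.mk hs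
  have hsp : s ≠ p := fun e => h.pGroup_not hZc hdZ (e ▸ hsd)
  -- pass to `s`-elements with commutator of order `s`
  obtain ⟨x, hx, y, hy, c, hcZ, hc, M, hxs, hys, hcs⟩ :
      ∃ x ∈ E, ∃ y ∈ E, ∃ c ∈ Z, x * y * x⁻¹ = c * y ∧ ∃ M : ℕ, x ^ s ^ M = 1 ∧ y ^ s ^ M = 1 ∧
        orderOf c = s := by
    have e1 : x * y * x⁻¹ = d * y := by rw [hd]; group
    have cd : ∀ e ∈ E, Commute d e := fun e he => (hEZ e he d hdZ).symm
    obtain ⟨a, m, hm, hxm⟩ := Nat.exists_eq_pow_mul_and_not_dvd (orderOf_pos x).ne' s hs.ne_one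
    obtain ⟨b, n, hn, hyn⟩ := Nat.exists_eq_pow_mul_and_not_dvd (orderOf_pos y).ne' s hs.ne_one
    obtain ⟨l, o, ho, hdo⟩ := Nat.exists_eq_pow_mul_and_not_dvd (orderOf_pos d).ne' s hs.ne_one
    have e2 : x ^ m * y ^ n * (x ^ m)⁻¹ = (d ^ (m * n)) * y ^ n := by
      rw [pow_mul]
      exact conj_pow_right (conj_pow_left e1 (cd x hx) m) ((cd y hy).pow_left m) n
    have hdx : d ^ orderOf x = 1 := by
      have := conj_pow_left e1 (cd x hx) (orderOf x)
      rw [pow_orderOf_eq_one] at this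
      simpa [eq_comm] using this
    set c₁ := d ^ (m * n) with hc₁
    have hc₁s : c₁ ^ s ^ a = 1 := by
      rw [hc₁, ← pow_mul, show m * n * s ^ a = orderOf x * n by rw [hxm]; ring, pow_mul, hdx, one_pow]
    have hc₁1 : c₁ ≠ 1 := fun h1 => by
      have := hsd.trans (orderOf_dvd_of_pow_eq_one h1)
      rcases hs.dvd_mul.mp this with h' | h'
      · exact hm h'
      · exact hn h'
    obtain ⟨t, -, ht⟩ := (Nat.dvd_prime_pow hs).mp (orderOf_dvd_of_pow_eq_one hc₁s)
    have ht0 : t ≠ 0 := fun h0 => hc₁1 (orderOf_eq_one_iff.mp (by rw [ht, h0, pow_zero]))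
    refine ⟨(x ^ m) ^ s ^ (t - 1), pow_mem (pow_mem hx _) _, y ^ n, pow_mem hy _, c₁ ^ s ^ (t - 1),
      pow_mem (pow_mem hdZ _) _, conj_pow_left e2 (Commute.pow_pow (cd x hx) _ _) _, a + b, ?_, ?_, ?_⟩
    · rw [← pow_mul, ← pow_mul]
      exact orderOf_dvd_iff_pow_eq_one.mp (hxm ▸ Dvd.intro (s ^ (t - 1) * s ^ b) (by ring))
    · rw [← pow_mul]
      exact orderOf_dvd_iff_pow_eq_one.mp (hyn ▸ Dvd.intro (s ^ a) (by ring))
    · rw [orderOf_pow_of_dvd (pow_ne_zero _ hs.ne_zero) (ht ▸ pow_dvd_pow s (Nat.sub_le t 1)), ht,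
        Nat.pow_div (Nat.sub_le t 1) hs.pos, show t - (t - 1) = 1 by omega, pow_one]
  have hc1 : c ≠ 1 := fun h1 => hs.ne_one (by rw [← hcs, h1, orderOf_one])
  have hcpow : c ^ s = 1 := hcs ▸ pow_orderOf_eq_one c
  have cc : ∀ e ∈ E, Commute c e := fun e he => (hEZ e he c hcZ).symm
  -- an element of order `s` of `E` is central
  have hordS : ∀ t ∈ E, t ^ s = 1 → Commute x t := by
    intro t ht hts
    rcases h.comparable hs hsp (m := 1) (a := t) (b := c) (by rwa [pow_one]) (by rwa [pow_one])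
      (cc t ht).symm with h' | h'
    · obtain ⟨k, rfl⟩ := h'
      exact ((cc x hx).symm).pow_right k
    · obtain ⟨k, hk⟩ := h'
      have hk' : t ^ k = c := hk
      by_cases hks : s ∣ k
      · obtain ⟨l, rfl⟩ := hks
        rw [pow_mul, hts, one_pow] at hk'
        exact absurd hk'.symm hc1
      · obtain ⟨e, he⟩ := exists_pow_eq_self_of_coprime (x := t) (n := k)
          (((hs.coprime_iff_not_dvd).mpr hks).symm.coprime_dvd_right (orderOf_dvd_of_pow_eq_one hts))
        rw [hk'] at he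
        exact he ▸ (cc x hx).symm.pow_right e
  have hxc : ∀ {u : A}, x * u * x⁻¹ = c * u → ¬ Commute x u := fun {u} hu hcom => hc1 (by
    rw [hcom.eq, mul_inv_cancel_right] at hu
    exact mul_eq_right.mp hu.symm)
  -- reduce to `y ^ s ∈ ⟨x ^ s⟩`
  have hcomm_s : Commute (x ^ s) (y ^ s) := by
    have := conj_pow_left hc (cc x hx) s
    rw [hcpow, one_mul] at this
    exact (show Commute (x ^ s) y from mul_inv_eq_iff_eq_mul.mp this).pow_right s
  obtain ⟨x, hx, y, hy, c, hcZ, hc, hcc, hxs, hys, hcs, hordS, hxc, hys'⟩ :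
      ∃ x ∈ E, ∃ y ∈ E, ∃ c ∈ Z, x * y * x⁻¹ = c * y ∧ c ≠ 1 ∧ x ^ s ^ M = 1 ∧ y ^ s ^ M = 1 ∧
        c ^ s = 1 ∧ (∀ t ∈ E, t ^ s = 1 → Commute x t) ∧
        (∀ {u : A}, x * u * x⁻¹ = c * u → ¬ Commute x u) ∧ y ^ s ∈ Submonoid.powers (x ^ s) := by
    rcases h.comparable hs hsp (m := M) (a := y ^ s) (b := x ^ s)
      (by rw [← pow_mul, mul_comm, pow_mul, hys, one_pow])
      (by rw [← pow_mul, mul_comm, pow_mul, hxs, one_pow]) hcomm_s.symm with h' | h'
    · exact ⟨x, hx, y, hy, c, hcZ, hc, hc1, hxs, hys, hcpow, hordS, hxc, h'⟩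
    · have hc' : y * x * y⁻¹ = c⁻¹ * x := by
        have e : x * y = c * (y * x) := by
          rw [← mul_assoc, ← hc, inv_mul_cancel_right]
        calc y * x * y⁻¹ = c⁻¹ * (c * (y * x)) * y⁻¹ := by group
          _ = c⁻¹ * x := by rw [← e]; group
      refine ⟨y, hy, x, hx, c⁻¹, inv_mem hcZ, hc', inv_ne_one.mpr hc1, hys, hxs, by rw [inv_pow, hcpow, inv_one],
        fun t ht hts => ?_, fun {u} hu hcom => ?_, h'⟩
      · rcases h.comparable hs hsp (m := 1) (a := t) (b := c) (by rwa [pow_one]) (by rwa [pow_one])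
          (cc t ht).symm with h'' | h''
        · obtain ⟨k, rfl⟩ := h''
          exact ((cc y hy).symm).pow_right k
        · obtain ⟨k, hk⟩ := h''
          have hk' : t ^ k = c := hk
          by_cases hks : s ∣ k
          · obtain ⟨l, rfl⟩ := hks
            rw [pow_mul, hts, one_pow] at hk'
            exact absurd hk'.symm hc1
          · obtain ⟨e, he⟩ := exists_pow_eq_self_of_coprime (x := t) (n := k)
              (((hs.coprime_iff_not_dvd).mpr hks).symm.coprime_dvd_right (orderOf_dvd_of_pow_eq_one hts))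
            rw [hk'] at he
            exact he ▸ (cc y hy).symm.pow_right e
      · rw [hcom.eq, mul_inv_cancel_right] at hu
        exact hc1 (inv_eq_one.mp (mul_eq_right.mp hu.symm))
  have cc : ∀ e ∈ E, Commute c e := fun e he => (hEZ e he c hcZ).symm
  obtain ⟨k, hk⟩ := hys'
  have hk' : (x ^ s) ^ k = y ^ s := hk
  set w := (x ^ k)⁻¹ with hw
  have hwE : w ∈ E := inv_mem (pow_mem hx k)
  have hy' : x * (w * y) * x⁻¹ = c * (w * y) := by
    have hxw : Commute x w := ((Commute.refl x).pow_right k).inv_right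
    calc x * (w * y) * x⁻¹ = w * (x * y * x⁻¹) := by rw [← mul_assoc, hxw.eq]; group
      _ = c * (w * y) := by rw [hc, ← mul_assoc, ← (cc w hwE).eq, mul_assoc]
  have hyw : y * w = c ^ k * (w * y) := by
    have h1 := conj_pow_left hc (cc x hx) k
    calc y * w = w * (x ^ k * y * (x ^ k)⁻¹) := by rw [hw]; group
      _ = c ^ k * (w * y) := by
        rw [h1, ← mul_assoc, ← ((cc w hwE).pow_left k).eq, mul_assoc]
  have hpow : (w * y) ^ s = (c ^ k) ^ s.choose 2 := by
    rw [mul_pow_of_central w y _ hyw ((cc w hwE).pow_left k) ((cc y hy).pow_left k)]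
    rw [hw, inv_pow, ← pow_mul x k s, mul_comm k s, pow_mul x s k, hk', inv_mul_cancel, mul_one]
  have hwyE : w * y ∈ E := mul_mem hwE hy
  rcases hs.eq_two_or_odd with rfl | hodd
  swap
  · exfalso
    refine hxc hy' (hordS _ hwyE ?_)
    rw [hpow, ← pow_mul]
    obtain ⟨l, hl⟩ := (hs.dvd_choose_self two_ne_zero (lt_of_le_of_ne hs.two_le (by omega)) : s ∣ s.choose 2)
    rw [hl, show k * (s * l) = s * (k * l) by ring, pow_mul, hcs, one_pow]
  refine ⟨hsp, ?_⟩
  have hcsq : c * c = 1 := by rw [← sq, hcs]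
  set y' := w * y with hy'def
  have hy'2 : y' * y' = c := by
    rw [← sq, hpow, Nat.choose_self, pow_one]
    obtain ⟨l, rfl | rfl⟩ := Nat.even_or_odd' k
    · exfalso
      refine hxc hy' (hordS _ hwyE ?_)
      rw [hpow, Nat.choose_self, pow_one, pow_mul, hcs, one_pow]
    · rw [pow_succ, pow_mul, hcs, one_pow, one_mul]
  have hji : y' * x = c * (x * y') := by
    have e : x * y' = c * (y' * x) :=
      calc x * y' = x * y' * x⁻¹ * x := (inv_mul_cancel_right _ x).symm
        _ = c * (y' * x) := by rw [hy', mul_assoc]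
    rw [e, ← mul_assoc, hcsq, one_mul]
  have hx2 : x * x = c := by
    have hcx : Commute (x * x) c := ((cc x hx).mul_right (cc x hx)).symm
    have hxx : (x * x) ^ 2 ^ M = 1 := by rw [← sq, ← pow_mul, mul_comm, pow_mul, hxs, one_pow]
    rcases h.comparable hs hsp (m := M + 1) (a := x * x) (b := c)
      (by rw [pow_succ, pow_mul, hxx, one_pow])
      (by rw [pow_succ, mul_comm, pow_mul, hcs, one_pow]) hcx with h' | h'
    · obtain ⟨l, hl⟩ := h'
      have hl' : c ^ l = x * x := hl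
      obtain ⟨r, rfl | rfl⟩ := Nat.even_or_odd' l
      · rw [pow_mul, hcs, one_pow] at hl'
        -- `x` is an involution, hence commutes with `y'`
        have hxi : x ^ 2 = 1 := by rw [sq, ← hl']
        rcases h.comparable hs hsp (m := 1) (a := x) (b := c) (by simpa using hxi) (by simpa using hcs)
          (cc x hx).symm with h'' | h''
        · obtain ⟨r', hr'⟩ := h''
          exact absurd ((show c ^ r' = x from hr') ▸ (cc y' hwyE).pow_left r') (hxc hy')
        · obtain ⟨r', hr'⟩ := h''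
          have hr'' : x ^ r' = c := hr'
          obtain ⟨q, rfl | rfl⟩ := Nat.even_or_odd' r'
          · rw [pow_mul, hxi, one_pow] at hr''; exact absurd hr''.symm hcc
          · rw [pow_succ, pow_mul, hxi, one_pow, one_mul] at hr''
            exact absurd (hr'' ▸ cc y' hwyE) (hxc hy')
      · rw [pow_succ, pow_mul, hcs, one_pow, one_mul] at hl'
        exact hl'.symm
    · obtain ⟨l, hl⟩ := h'
      have hl' : (x * x) ^ l = c := hl
      obtain ⟨r, rfl | rfl⟩ := Nat.even_or_odd' l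
      · exfalso
        set z := x ^ (2 * r) with hz
        have hzy : Commute z y' := by
          have := conj_pow_left hy' (cc x hx) (2 * r)
          rw [pow_mul c, hcs, one_pow, one_mul] at this
          exact mul_inv_eq_iff_eq_mul.mp this
        have hz2 : z * z = c := by rw [← hl', ← sq x, ← pow_mul, hz, ← pow_add]; ring_nf
        have hone : (z * y') ^ 2 = 1 := by rw [hzy.mul_pow, sq, sq, hz2, hy'2, hcsq]
        have h1 := hordS (z * y') (mul_mem (pow_mem hx _) hwyE) hone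
        refine hxc hy' ?_
        have hxz : Commute x z := (Commute.refl x).pow_right _
        have := hxz.inv_right.mul_right h1
        rwa [inv_mul_cancel_left] at this
      · -- `x * x` is an odd power generating the involution `c`
        have h4 : ((x * x) ^ (2 * r + 1)) ^ 2 = 1 := by rw [hl', hcs]
        have h5 : (x * x) ^ 2 = 1 := by
          obtain ⟨e, he⟩ := exists_pow_eq_self_of_coprime (x := x * x) (n := 2 * r + 1) (by
            refine Nat.Coprime.coprime_dvd_right (orderOf_dvd_of_pow_eq_one hxx) (Nat.Coprime.pow_right _ ?_)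
            exact Nat.coprime_two_right.mpr ⟨r, rfl⟩)
          rw [← he, ← pow_mul, mul_comm e, pow_mul, h4, one_pow]
        rw [pow_succ, pow_mul, h5, one_pow, one_mul] at hl'
        exact hl'
  exact ⟨x, hx, y', hwyE, c, hcZ, ⟨hcc, hcsq, hx2, hy'2, hji⟩⟩

omit [Finite A] [Finite N] in
/-- `E` contains a normal subgroup centralising `Z`, not in `Z`, with commutators in `Z`. -/
theorem exists_step [Group.IsSolvable A] {Z D : Subgroup A} [D.Normal] (hD : ¬ D ≤ Z) :
    ∃ E : Subgroup A, E.Normal ∧ E ≤ D ∧ ¬ E ≤ Z ∧ ∀ e ∈ E, ∀ f ∈ E, e * f * e⁻¹ * f⁻¹ ∈ Z := by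
  classical
  let F : ℕ → Subgroup A := fun n => Nat.rec D (fun _ H => ⁅H, H⁆) n
  have hF : ∀ n, (F n).Normal := by
    intro n
    induction n with
    | zero => assumption
    | succ n ih => exact @Subgroup.commutator_normal A _ (F n) (F n) ih ih
  have hFD : ∀ n, F n ≤ D ⊓ derivedSeries A n := by
    intro n
    induction n with
    | zero => exact le_inf le_rfl le_top
    | succ n ih =>
        have := hF n
        refine le_inf ?_ ?_
        · exact le_trans (Subgroup.commutator_le_self _) (ih.trans inf_le_left)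
        · exact Subgroup.commutator_mono (ih.trans inf_le_right) (ih.trans inf_le_right)
  obtain ⟨m, hm⟩ := Group.IsSolvable.solvable (G := A)
  obtain ⟨n, hn1, hn2⟩ : ∃ n, ¬ F n ≤ Z ∧ F (n + 1) ≤ Z := by
    by_contra hcon
    push Not at hcon
    have hall : ∀ n, ¬ F n ≤ Z := fun n => by
      induction n with
      | zero => exact hD
      | succ n ih => exact hcon n ih
    exact hall m (((hFD m).trans inf_le_right).trans (hm ▸ bot_le))
  exact ⟨F n, hF n, (hFD n).trans inf_le_left, hn1,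
    fun e he f hf => hn2 (Subgroup.commutator_mem_commutator he hf)⟩

/-- Every 2-element of `E` lies in the quaternion group spanned by the pair. -/
theorem mem_quaternion (h : TransSetting p φ) (hp2 : 2 ≠ p) {Z E : Subgroup A}
    (hEZ : ∀ e ∈ E, ∀ z ∈ Z, e * z = z * e) (hEE : ∀ e ∈ E, ∀ f ∈ E, e * f * e⁻¹ * f⁻¹ ∈ Z)
    {i j c : A} (hQ : QPair i j c) (hi : i ∈ E) (hj : j ∈ E) (hc : c ∈ Z)
    {t : A} (ht : t ∈ E) {m : ℕ} (htm : t ^ 2 ^ m = 1) :
    ∃ q ∈ ({1, i, j, i * j} : Set A), t = q ∨ t = c * q := by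
  have cc : ∀ e ∈ E, Commute c e := fun e he => (hEZ e he c hc).symm
  -- the commutator of `t` with `i` and with `j` is `1` or `c`
  have hcom : ∀ u ∈ E, u * u = c → ∀ t ∈ E, t * u = u * t ∨ t * u = c * (u * t) := by
    intro u hu hu2 t ht
    set a := t * u * t⁻¹ * u⁻¹ with ha
    have haZ : a ∈ Z := hEE t ht u hu
    have h1 : t * u * t⁻¹ = a * u := by rw [ha]; group
    have hau : Commute a u := (hEZ u hu a haZ).symm
    have ha2 : a * a = 1 := by
      have := conj_pow_right h1 hau 2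
      rw [sq, sq, hu2, ← (cc t ht).eq, mul_inv_cancel_right] at this
      exact mul_eq_right.mp this.symm
    have h2 : t * u = a * (u * t) := by rw [ha]; group
    by_cases ha1 : a = 1
    · left; rw [h2, ha1, one_mul]
    · right
      rw [h2, h.eq_of_sq_eq_one hp2 ha2 hQ.sq (hEZ c ?_ a haZ).symm ha1 hQ.ne]
      exact hQ.ii ▸ mul_mem hi hi
  -- an element of `E` of 2-power order commuting with `i` and `j` is `1` or `c`
  have hcent : ∀ u ∈ E, ∀ m : ℕ, u ^ 2 ^ m = 1 → Commute u i → Commute u j → u = 1 ∨ u = c := by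
    intro u hu m hum hui huj
    have hi4 : i ^ 2 ^ (m + 2) = 1 := by
      rw [pow_add, mul_comm, pow_mul, show i ^ 2 ^ 2 = 1 by
        rw [show (2:ℕ) ^ 2 = 2 * 2 by rfl, pow_mul, sq i, hQ.ii, sq, hQ.sq], one_pow]
    rcases h.comparable Nat.prime_two hp2 (by rw [pow_add, pow_mul, hum, one_pow] : u ^ 2 ^ (m + 2) = 1) hi4 hui
      with h' | h'
    · obtain ⟨k, hk⟩ := h'
      have hk' : i ^ k = u := hk
      obtain ⟨l, rfl | rfl⟩ := Nat.even_or_odd' k
      · rw [pow_mul, sq, hQ.ii] at hk'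
        obtain ⟨r, rfl | rfl⟩ := Nat.even_or_odd' l
        · left; rw [← hk', pow_mul, sq, hQ.sq, one_pow]
        · right; rw [← hk', pow_succ, pow_mul, sq, hQ.sq, one_pow, one_mul]
      · exfalso
        rw [pow_succ, pow_mul, sq, hQ.ii] at hk'
        refine hQ.not_comm ?_
        have h1 : i = (c ^ l)⁻¹ * u := by rw [← hk']; group
        rw [h1]
        exact ((cc j hj).pow_left l).inv_left.mul_left huj
    · obtain ⟨k, hk⟩ := h'
      exact absurd ((show u ^ k = i from hk) ▸ huj.pow_left k) hQ.not_comm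
  -- multiply `t` by a suitable element so that it centralises `i` and `j`
  have hmulc : ∀ t, t ∈ E → ∀ m, t ^ 2 ^ m = 1 → ∀ u ∈ E, u * u = c → (t * u) ^ 2 ^ (m + 3) = 1 := by
    intro t ht m htm u hu hu2
    have hu4 : u ^ 4 = 1 := by
      rw [show 4 = 2 * 2 by rfl, pow_mul, sq u, hu2, sq, hQ.sq]
    have htm' : t ^ 2 ^ (m + 3) = 1 := by rw [pow_add, pow_mul, htm, one_pow]
    have hum : u ^ 2 ^ (m + 3) = 1 := by
      rw [show 2 ^ (m + 3) = 4 * 2 ^ (m + 1) by ring, pow_mul, hu4, one_pow]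
    rcases hcom u hu hu2 t ht with h' | h'
    · rw [Commute.mul_pow h', htm', hum, one_mul]
    · have h'' : u * t = c * (t * u) := by rw [h', ← mul_assoc, hQ.sq, one_mul]
      rw [mul_pow_of_central t u c h'' (cc t ht) (cc u hu), htm', hum, mul_one, mul_one,
        Nat.choose_two_right, show 2 ^ (m + 3) * (2 ^ (m + 3) - 1) / 2 = 2 * (2 ^ (m + 1) * (2 ^ (m + 3) - 1)) by
          rw [show 2 ^ (m + 3) * (2 ^ (m + 3) - 1) = 2 * (2 * (2 ^ (m + 1) * (2 ^ (m + 3) - 1))) by ring,
            Nat.mul_div_cancel_left _ two_pos],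
        pow_mul, sq, hQ.sq, one_pow]
  have hk := hQ.kk
  have hkE : i * j ∈ E := mul_mem hi hj
  have hij : i * j = c * (j * i) := by rw [hQ.ji, ← mul_assoc, hQ.sq, one_mul]
  have fin : ∀ q ∈ ({1, i, j, i * j} : Set A), ∀ qi : A, qi * q = c → Commute c q →
      (t * qi = 1 ∨ t * qi = c) → ∃ r ∈ ({1, i, j, i * j} : Set A), t = r ∨ t = c * r := by
    intro q hq qi hqi hcq h'
    refine ⟨q, hq, ?_⟩
    have hqi' : qi⁻¹ = c * q := by
      have h1 : qi = c * q⁻¹ := by rw [← hqi, mul_inv_cancel_right]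
      rw [h1, mul_inv_rev, inv_inv, hQ.inv_c, hcq.eq]
    rcases h' with h' | h'
    · exact Or.inr (by rw [mul_eq_one_iff_eq_inv.mp h', hqi'])
    · left
      rw [show t = c * qi⁻¹ by rw [← h']; group, hqi', ← mul_assoc, hQ.sq, one_mul]
  have hmv : ∀ u ∈ E, u * u = c → (t * u = u * t ∨ t * u = c * (u * t)) := fun u hu hu2 =>
    hcom u hu hu2 t ht
  rcases hmv i hi hQ.ii with hti | hti <;> rcases hmv j hj hQ.jj with htj | htj
  · rcases hcent t ht m htm hti htj with rfl | rfl
    · exact ⟨1, by simp, Or.inl rfl⟩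
    · exact ⟨1, by simp, Or.inr (mul_one _).symm⟩
  · refine fin i (by simp) i hQ.ii hQ.comm_i (hcent _ (mul_mem ht hi) _ (hmulc t ht m htm i hi hQ.ii)
      ((show Commute t i from hti).mul_left (Commute.refl i)) ?_)
    show t * i * j = j * (t * i)
    have e : j * t = c * (t * j) := by rw [htj, ← mul_assoc, hQ.sq, one_mul]
    calc t * i * j = c * c * (t * (i * j)) := by rw [hQ.sq, one_mul, mul_assoc]
      _ = c * (t * (j * i)) := by rw [hQ.ji, ← mul_assoc t c, ← (cc t ht).eq]; simp only [mul_assoc]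
      _ = (j * t) * i := by rw [e]; simp only [mul_assoc]
      _ = j * (t * i) := mul_assoc _ _ _
  · refine fin j (by simp) j hQ.jj hQ.comm_j (hcent _ (mul_mem ht hj) _ (hmulc t ht m htm j hj hQ.jj)
      ?_ ((show Commute t j from htj).mul_left (Commute.refl j)))
    show t * j * i = i * (t * j)
    have e : i * t = c * (t * i) := by rw [hti, ← mul_assoc, hQ.sq, one_mul]
    calc t * j * i = t * (c * (i * j)) := by rw [mul_assoc, hQ.ji]
      _ = c * (t * (i * j)) := by rw [← mul_assoc t c, ← (cc t ht).eq]; simp only [mul_assoc]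
      _ = (i * t) * j := by rw [e]; simp only [mul_assoc]
      _ = i * (t * j) := mul_assoc _ _ _
  · refine fin (i * j) (by simp) (i * j) hk (cc _ hkE) (hcent _ (mul_mem ht hkE) _
      (hmulc t ht m htm (i * j) hkE hk) ?_ ?_)
    · show t * (i * j) * i = i * (t * (i * j))
      have e : i * t = c * (t * i) := by rw [hti, ← mul_assoc, hQ.sq, one_mul]
      calc t * (i * j) * i = t * i * (j * i) := by simp only [mul_assoc]
        _ = c * (t * i) * (i * j) := by
              rw [hQ.ji, ← mul_assoc, ← (cc _ (mul_mem ht hi)).eq]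
        _ = (i * t) * (i * j) := by rw [e]
        _ = i * (t * (i * j)) := mul_assoc _ _ _
    · show t * (i * j) * j = j * (t * (i * j))
      have e : j * t = c * (t * j) := by rw [htj, ← mul_assoc, hQ.sq, one_mul]
      calc t * (i * j) * j = t * (c * (j * i)) * j := by rw [← hij]
        _ = c * (t * j * (i * j)) := by rw [← mul_assoc t c, ← (cc t ht).eq]; simp only [mul_assoc]
        _ = (j * t) * (i * j) := by rw [e]; simp only [mul_assoc]
        _ = j * (t * (i * j)) := mul_assoc _ _ _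

/-- In characteristic three a normalised quaternion group leaves only the plane of order nine. -/
theorem card_eq_nine (h : TransSetting p φ) (hp : p = 3) {i j c : A} (hQ : QPair i j c)
    (hconj : ∀ g : A, ∀ q ∈ ({i, j} : Set A), ∃ r ∈ ({i, j, i * j} : Set A),
      g⁻¹ * q * g = r ∨ g⁻¹ * q * g = c * r) :
    Nat.card N = 9 := by
  classical
  subst hp
  have h3 : ∀ x : N, x ^ 3 = 1 := h.exp
  have hnd : ∀ {a : A} {m : ℕ}, a ^ 2 ^ m = 1 → ¬ 3 ∣ orderOf a := fun ha =>
    h.not_dvd_of_pow Nat.prime_two (by norm_num) ha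
  have hc : ∀ x : N, φ c x = x⁻¹ := by
    intro x
    by_contra hne
    have hy : x * φ c x ≠ 1 := fun e => hne (eq_inv_of_mul_eq_one_right e)
    refine hQ.ne (h.eq_one_of_fix (hnd (m := 1) (by rw [pow_one, sq, hQ.sq])) hy ?_)
    rw [map_mul (φ c), ← MulAut.mul_apply, ← map_mul, hQ.sq, map_one, MulAut.one_apply, mul_comm]
  let I : N → N := fun x => φ i x
  let J : N → N := fun x => φ j x
  have hII : ∀ x, I (I x) = x⁻¹ := fun x => by
    show φ i (φ i x) = _
    rw [← MulAut.mul_apply, ← map_mul, hQ.ii, hc]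
  have hJJ : ∀ x, J (J x) = x⁻¹ := fun x => by
    show φ j (φ j x) = _
    rw [← MulAut.mul_apply, ← map_mul, hQ.jj, hc]
  have hJI : ∀ x, J (I x) = (I (J x))⁻¹ := fun x => by
    show φ j (φ i x) = (φ i (φ j x))⁻¹
    rw [← MulAut.mul_apply, ← map_mul, hQ.ji, map_mul, MulAut.mul_apply, hc, map_mul, MulAut.mul_apply]
  have hImul : ∀ x y, I (x * y) = I x * I y := fun x y => map_mul (φ i) x y
  have hJmul : ∀ x y, J (x * y) = J x * J y := fun x y => map_mul (φ j) x y
  have hi1 : ∀ x, x ≠ 1 → I x ≠ x := fun x hx e =>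
    hQ.not_comm (by
      have : i = 1 := h.eq_one_of_fix (hnd (m := 2) (by
        rw [show (2:ℕ) ^ 2 = 2 * 2 by rfl, pow_mul, sq i, hQ.ii, sq, hQ.sq])) hx e
      rw [this]; exact Commute.one_left j)
  have hinv : ∀ x : N, x⁻¹ = x ^ 2 := fun x => inv_eq_of_mul_eq_one_right (by rw [← pow_succ', h3])
  have hmod : ∀ (x : N) (a : ℕ), x ^ a = x ^ (a % 3) := fun x a => by
    conv_lhs => rw [← Nat.div_add_mod a 3, pow_add, pow_mul, h3, one_pow, one_mul]
  let M : N → Subgroup N := fun u =>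
    { carrier := {x | ∃ a b : ℕ, x = u ^ a * I u ^ b}
      one_mem' := ⟨0, 0, by simp⟩
      mul_mem' := by
        rintro _ _ ⟨a, b, rfl⟩ ⟨a', b', rfl⟩
        exact ⟨a + a', b + b', by rw [pow_add, pow_add]; exact mul_mul_mul_comm _ _ _ _⟩
      inv_mem' := by
        rintro _ ⟨a, b, rfl⟩
        exact ⟨a * 2, b * 2, by rw [hinv, mul_pow, ← pow_mul, ← pow_mul]⟩ }
  have hmem : ∀ u, u ∈ M u ∧ I u ∈ M u := fun u => ⟨⟨1, 0, by simp⟩, ⟨0, 1, by simp⟩⟩
  have hindep : ∀ u, u ≠ 1 → ∀ a b : ℕ, u ^ a * I u ^ b = 1 → a % 3 = 0 ∧ b % 3 = 0 := by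
    intro u hu a b hab
    rw [hmod u a, hmod (I u) b] at hab
    have hord : orderOf u = 3 := orderOf_eq_prime (h3 u) hu
    have ha3 := Nat.mod_lt a (show 3 > 0 by norm_num)
    have hb3 := Nat.mod_lt b (show 3 > 0 by norm_num)
    have hIu1 : ∀ e : ℕ, I u = u ^ e → False := by
      intro e he
      rw [hmod] at he
      have he3 := Nat.mod_lt e (show 3 > 0 by norm_num)
      interval_cases hh : e % 3
      · rw [pow_zero] at he
        exact hu (by simpa [I] using he)
      · exact hi1 u hu (by simpa using he)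
      · rw [← hinv] at he
        have h1 : I (I u) = u := by
          rw [he]
          show φ i u⁻¹ = u
          rw [map_inv]; show (I u)⁻¹ = u
          rw [he, inv_inv]
        rw [hII] at h1
        rw [hinv] at h1
        exact hu (by simpa [sq] using h1)
    interval_cases hh : b % 3
    · refine ⟨?_, rfl⟩
      rw [pow_zero, mul_one] at hab
      by_contra hne
      have h5 := orderOf_dvd_of_pow_eq_one hab
      rw [hord] at h5
      have h4 := Nat.le_of_dvd (Nat.pos_of_ne_zero hne) h5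
      omega
    · exfalso
      rw [pow_one] at hab
      exact hIu1 ((a % 3) * 2) (by rw [eq_inv_of_mul_eq_one_right hab, hinv, ← pow_mul])
    · exfalso
      rw [← hinv] at hab
      exact hIu1 (a % 3) (mul_inv_eq_one.mp hab).symm
  have hcard : ∀ u, u ≠ 1 → Nat.card (M u) = 9 := by
    intro u hu
    let f : Fin 3 × Fin 3 → M u := fun ab => ⟨u ^ (ab.1 : ℕ) * I u ^ (ab.2 : ℕ), _, _, rfl⟩
    have hf : Function.Bijective f := by
      refine ⟨?_, ?_⟩
      · rintro ⟨a, b⟩ ⟨a', b'⟩ e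
        have e' : u ^ (a : ℕ) * I u ^ (b : ℕ) = u ^ (a' : ℕ) * I u ^ (b' : ℕ) := congrArg Subtype.val e
        have h1 := congrArg (fun t => t * (u ^ (2 * (a' : ℕ)) * I u ^ (2 * (b' : ℕ)))) e'
        simp only [mul_mul_mul_comm, ← pow_add] at h1
        rw [show (a' : ℕ) + 2 * a' = 3 * a' by ring, show (b' : ℕ) + 2 * b' = 3 * b' by ring,
          pow_mul, pow_mul, h3, h3, one_pow, one_pow, one_mul] at h1
        obtain ⟨h4, h5⟩ := hindep u hu _ _ h1
        have := a.2; have := a'.2; have := b.2; have := b'.2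
        exact Prod.ext (Fin.ext (show (a : ℕ) = a' by omega)) (Fin.ext (show (b : ℕ) = b' by omega))
      · rintro ⟨x, a, b, rfl⟩
        exact ⟨(⟨a % 3, Nat.mod_lt _ (by norm_num)⟩, ⟨b % 3, Nat.mod_lt _ (by norm_num)⟩),
          Subtype.ext (by simp only [f, ← hmod])⟩
    rw [← Nat.card_congr (Equiv.ofBijective f hf)]
    simp
  have hMI : ∀ u, ∀ x ∈ M u, I x ∈ M u := by
    rintro u _ ⟨a, b, rfl⟩
    rw [hImul, show I (u ^ a) = I u ^ a from map_pow (φ i) u a,
      show I (I u ^ b) = I (I u) ^ b from map_pow (φ i) (I u) b, hII]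
    exact mul_mem (pow_mem (hmem u).2 _) (pow_mem (inv_mem (hmem u).1) _)
  -- a first point whose plane is invariant
  obtain ⟨u, hu, hJu⟩ : ∃ u, u ≠ 1 ∧ J u ∈ M u := by
    have := h.nontriv
    obtain ⟨x, hx⟩ := exists_ne (1 : N)
    let r : N → N := fun x => I x * J x
    have hrr : ∀ y, r (r y) = y := fun y => by
      show I (I y * J y) * J (I y * J y) = y
      rw [hImul, hJmul, hII, hJI, hJJ, hinv y]
      calc y ^ 2 * I (J y) * ((I (J y))⁻¹ * y ^ 2) = y ^ 3 * y := by
            rw [mul_assoc, mul_inv_cancel_left, ← pow_add, ← pow_succ]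
        _ = y := by rw [h3, one_mul]
    by_cases h0 : x * r x = 1
    · refine ⟨x, hx, ?_⟩
      have h1 : r x = x⁻¹ := eq_inv_of_mul_eq_one_right h0
      have h2 : J x = (I x)⁻¹ * x⁻¹ := by rw [← h1]; simp [r]
      rw [h2]
      exact mul_mem (inv_mem (hmem x).2) (inv_mem (hmem x).1)
    · refine ⟨x * r x, h0, ?_⟩
      have h1 : r (x * r x) = x * r x := by
        show I (x * r x) * J (x * r x) = x * r x
        rw [hImul, hJmul, mul_mul_mul_comm]
        show r x * r (r x) = _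
        rw [hrr, mul_comm]
      have h2 : J (x * r x) = (I (x * r x))⁻¹ * (x * r x) := by
        calc J (x * r x) = (I (x * r x))⁻¹ * r (x * r x) := (inv_mul_cancel_left _ _).symm
          _ = _ := by rw [h1]
      rw [h2]
      exact mul_mem (inv_mem (hmem _).2) (hmem _).1
  have hMJ : ∀ u, J u ∈ M u → ∀ x ∈ M u, J x ∈ M u := by
    rintro u hu _ ⟨a, b, rfl⟩
    rw [hJmul, show J (u ^ a) = J u ^ a from map_pow (φ j) u a,
      show J (I u ^ b) = J (I u) ^ b from map_pow (φ j) (I u) b, hJI]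
    exact mul_mem (pow_mem hu _) (pow_mem (inv_mem (hMI u _ hu)) _)
  -- hence every plane is invariant
  have hall : ∀ v, v ≠ 1 → J v ∈ M v := by
    intro v hv
    obtain ⟨g, rfl⟩ := h.trans u v hu hv
    have hinvar : ∀ q ∈ ({i, j} : Set A), ∀ x ∈ (M u).map (φ g).toMonoidHom,
        φ q x ∈ (M u).map (φ g).toMonoidHom := by
      rintro q hq _ ⟨y, hy, rfl⟩
      refine ⟨φ (g⁻¹ * q * g) y, ?_, ?_⟩
      · have key : ∀ r ∈ ({i, j, i * j} : Set A), φ r y ∈ M u := by
          rintro r (rfl | rfl | rfl)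
          · exact hMI u y hy
          · exact hMJ u hJu y hy
          · rw [map_mul, MulAut.mul_apply]
            exact hMI u _ (hMJ u hJu y hy)
        obtain ⟨r, hr, h' | h'⟩ := hconj g q hq
        · rw [h']; exact key r hr
        · rw [h', map_mul, MulAut.mul_apply, hc]; exact inv_mem (key r hr)
      · show φ g (φ (g⁻¹ * q * g) y) = φ q (φ g y)
        rw [← MulAut.mul_apply, ← MulAut.mul_apply, ← map_mul, ← map_mul]
        congr 2
        group
    have hvm : φ g u ∈ (M u).map (φ g).toMonoidHom := ⟨u, (hmem u).1, rfl⟩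
    have hle : M (φ g u) ≤ (M u).map (φ g).toMonoidHom := by
      rintro _ ⟨a, b, rfl⟩
      exact mul_mem (pow_mem hvm _) (pow_mem (hinvar i (by simp) _ hvm) _)
    have heq := Subgroup.eq_of_le_of_card_ge hle (by
      rw [hcard _ hv, Subgroup.card_map_of_injective (φ g).injective, hcard u hu])
    rw [heq]
    exact hinvar j (by simp) _ hvm
  by_contra hN
  obtain ⟨w, hw⟩ : ∃ w, w ∉ M u := by
    by_contra hcon
    push Not at hcon
    exact hN (by rw [← hcard u hu, show M u = ⊤ from eq_top_iff.mpr fun x _ => hcon x, Subgroup.card_top])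
  have hsub : ∀ v, v ≠ 1 → ∀ y ∈ M v, y ≠ 1 → M y = M v := by
    intro v hv y hy hy1
    refine Subgroup.eq_of_le_of_card_ge ?_ (by rw [hcard v hv, hcard y hy1])
    rintro _ ⟨a, b, rfl⟩
    exact mul_mem (pow_mem hy _) (pow_mem (hMI v y hy) _)
  obtain ⟨a, b, hab⟩ := hall u hu
  -- the coefficients do not depend on the point outside a plane
  have hcoef : ∀ v, v ≠ 1 → M v = M u → ∀ a b : ℕ, J v = v ^ a * I v ^ b →
      J w = w ^ a * I w ^ b := by
    intro v hv hMv a b hab
    have hw1 : w ≠ 1 := fun e => hw (e ▸ one_mem _)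
    have hdis : ∀ y, y ∈ M v → y ∈ M w → y = 1 := fun y hyv hyw => by
      by_contra hy1
      exact hw (by rw [← hMv, ← hsub v hv y hyv hy1, hsub w hw1 y hyw hy1]; exact (hmem w).1)
    obtain ⟨a', b', hab'⟩ := hall w hw1
    have hvw : v * w ≠ 1 := fun e => by
      rw [eq_inv_of_mul_eq_one_right e] at hw
      exact hw (inv_mem (hMv ▸ (hmem v).1))
    obtain ⟨a'', b'', hab''⟩ := hall (v * w) hvw
    rw [hJmul, hab, hab', hImul, mul_pow, mul_pow, mul_mul_mul_comm (v ^ a'') (w ^ a'')] at hab''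
    set P := v ^ a * I v ^ b with hP
    set P' := v ^ a'' * I v ^ b'' with hP'
    set R := w ^ a' * I w ^ b' with hR
    set R' := w ^ a'' * I w ^ b'' with hR'
    have h1 : P * P'⁻¹ = R' * R⁻¹ := by
      rw [mul_inv_eq_iff_eq_mul, mul_assoc, mul_comm R⁻¹, ← mul_assoc, eq_mul_inv_iff_mul_eq, hab'', mul_comm]
    have hPM : P ∈ M v ∧ P' ∈ M v := ⟨⟨a, b, rfl⟩, ⟨a'', b'', rfl⟩⟩
    have hRM : R ∈ M w ∧ R' ∈ M w := ⟨⟨a', b', rfl⟩, ⟨a'', b'', rfl⟩⟩
    have h2 := hdis _ (mul_mem hPM.1 (inv_mem hPM.2)) (h1 ▸ mul_mem hRM.2 (inv_mem hRM.1))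
    have h4 : R = R' := by
      rw [h2] at h1
      exact (mul_inv_eq_one.mp h1.symm).symm
    rw [hinv, mul_pow, ← pow_mul, ← pow_mul, mul_mul_mul_comm, ← pow_add, ← pow_add] at h2
    obtain ⟨h5, h6⟩ := hindep v hv _ _ h2
    rw [hab', h4, hR', hmod w a, hmod w a'', hmod (I w) b, hmod (I w) b'',
      show a % 3 = a'' % 3 by omega, show b % 3 = b'' % 3 by omega]
  have hIu : I u ≠ 1 := fun e => hu (by simpa [I] using e)
  have h1 := hcoef u hu rfl a b hab
  have hMIu : M (I u) = M u := hsub u hu _ (hmem u).2 hIu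
  obtain ⟨a', b', hab'⟩ := hall (I u) hIu
  have h2 := hcoef (I u) hIu hMIu a' b' hab'
  rw [h1] at h2
  have hw1 : w ≠ 1 := fun e => hw (e ▸ one_mem _)
  have h4 : w ^ (a + a' * 2) * I w ^ (b + b' * 2) = 1 := by
    rw [pow_add, pow_add, mul_mul_mul_comm, h2, mul_mul_mul_comm, ← pow_add, ← pow_add,
      hmod w, hmod (I w), show (a' + a' * 2) % 3 = 0 by omega, show (b' + b' * 2) % 3 = 0 by omega,
      pow_zero, pow_zero, one_mul]
  obtain ⟨h5, h6⟩ := hindep w hw1 _ _ h4
  rw [hJI, hab, hImul, show I (u ^ a) = I u ^ a from map_pow (φ i) u a,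
    show I (I u ^ b) = I (I u) ^ b from map_pow (φ i) (I u) b, hII, hmod (I u) a', hmod u⁻¹,
    show a' % 3 = a % 3 by omega] at hab'
  rw [hmod u⁻¹ b', show b' % 3 = b % 3 by omega, ← hmod, ← hmod] at hab'
  set z := I u ^ a * u⁻¹ ^ b with hz
  have hz1 : z = 1 := by
    have : z * z = 1 := by nth_rw 1 [← hab']; exact inv_mul_cancel z
    calc z = z ^ 3 * z := by rw [h3, one_mul]
      _ = (z * z) * (z * z) := by simp [pow_succ, mul_assoc]
      _ = 1 := by rw [this, one_mul]
  rw [hz, inv_pow, mul_inv_eq_one] at hz1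
  have hJu1 : J u ≠ 1 := fun e => hu (by simpa [J] using e)
  apply hJu1
  rw [hab]
  have h7 : u ^ (b * 2) * I u ^ a = 1 := by rw [hz1, ← pow_add, show b * 2 + b = 3 * b by ring, pow_mul, h3, one_pow]
  obtain ⟨h8, h9⟩ := hindep u hu _ _ h7
  rw [hmod u a, hmod (I u) b, show a % 3 = 0 by omega, show b % 3 = 0 by omega, pow_zero, pow_zero, one_mul]

/-- The derived subgroup has order prime to `p`. -/
theorem not_dvd_orderOf_of_mem_commutator [Group.IsSolvable A] (h : TransSetting p φ) {a : A}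
    (ha : a ∈ commutator A) : ¬ p ∣ orderOf a := by
  classical
  have := Fact.mk h.prime
  obtain ⟨Z, ⟨hZn, hZc⟩, hZmax⟩ := Set.exists_max_image
    {M : Subgroup A | M.Normal ∧ ∀ a ∈ M, ∀ b ∈ M, a * b = b * a} (fun M => Nat.card M) (Set.toFinite _)
    ⟨⊥, inferInstance, fun a ha b hb => by
      rw [Subgroup.mem_bot] at ha hb; rw [ha, hb]⟩
  have := hZn
  have hcyc := h.isCyclic Z hZc fun z hz => h.pGroup_not hZc hz
  set D := Subgroup.centralizer (Z : Set A) with hD
  have hZD : Z ≤ D := fun z hz => Subgroup.mem_centralizer_iff.mpr fun y hy => hZc y hy z hz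
  have hAD : commutator A ≤ D := by
    let ψ : A →* MulAut Z := MulAut.conjNormal
    rw [commutator_def, Subgroup.commutator_le]
    intro x _ y _
    have hab : ψ x * ψ y = ψ y * ψ x := (IsCyclic.mulAutMulEquiv Z).injective (by
      rw [map_mul, map_mul, mul_comm])
    have h1 : ψ (x * y * x⁻¹ * y⁻¹) = 1 := by
      rw [map_mul, map_mul, map_mul, map_inv, map_inv, hab]; group
    rw [Subgroup.mem_centralizer_iff]
    intro z hz
    have h3 := congrArg Subtype.val (DFunLike.congr_fun h1 ⟨z, hz⟩)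
    simp only [ψ, MulAut.conjNormal_apply, MulAut.one_apply] at h3
    exact (mul_inv_eq_iff_eq_mul.mp h3).symm
  by_cases hDZ : D ≤ Z
  · exact h.pGroup_not hZc (hDZ (hAD ha))
  -- quaternion pairs exist in normal subgroups of `D` outside `Z`
  have hpair : ∀ D₀ : Subgroup A, D₀.Normal → D₀ ≤ D → ¬ D₀ ≤ Z →
      2 ≠ p ∧ ∃ E : Subgroup A, E.Normal ∧ E ≤ D₀ ∧ (∀ e ∈ E, ∀ z ∈ Z, e * z = z * e) ∧
        (∀ e ∈ E, ∀ f ∈ E, e * f * e⁻¹ * f⁻¹ ∈ Z) ∧ ∃ i ∈ E, ∃ j ∈ E, ∃ c ∈ Z, QPair i j c := by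
    intro D₀ hD₀ hD₀D hD₀Z
    obtain ⟨E, hEn, hED, hEZ', hEE⟩ := exists_step hD₀Z
    have hEZ : ∀ e ∈ E, ∀ z ∈ Z, e * z = z * e := fun e he z hz =>
      (Subgroup.mem_centralizer_iff.mp (hD₀D (hED he)) z hz).symm
    have hnc : ∃ e ∈ E, ∃ f ∈ E, e * f ≠ f * e := by
      by_contra hcon
      push Not at hcon
      apply hEZ'
      have hmax := hZmax (E ⊔ Z) ⟨inferInstance, fun x hx y hy => by
        obtain ⟨e, he, z, hz, rfl⟩ := Subgroup.mem_sup_of_normal_right.mp hx
        obtain ⟨f, hf, w, hw, rfl⟩ := Subgroup.mem_sup_of_normal_right.mp hy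
        have c1 : Commute e f := hcon e he f hf
        have c2 : Commute e w := hEZ e he w hw
        have c3 : Commute f z := hEZ f hf z hz
        have c4 : Commute z w := hZc z hz w hw
        exact ((c1.mul_right c2).mul_left (c3.symm.mul_right c4)).eq⟩
      exact le_trans le_sup_left (Subgroup.eq_of_le_of_card_ge le_sup_right hmax).ge
    obtain ⟨h2p, hQ⟩ := h.exists_qpair hZc hEZ hEE hnc
    exact ⟨h2p, E, hEn, hED, hEZ, hEE, hQ⟩
  obtain ⟨h2p, E, hEn, hED, hEZ, hEE, i, hi, j, hj, c, hcZ, hQ⟩ :=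
    hpair D inferInstance le_rfl hDZ
  have hcfix : ∀ g : A, g * c * g⁻¹ = c := fun g => by
    refine h.eq_of_sq_eq_one h2p (by rw [conj_mul, hQ.sq]; group) hQ.sq
      (hZc _ (hZn.conj_mem c hcZ g) c hcZ) ?_ hQ.ne
    exact fun e => hQ.ne (conj_eq_one_iff.mp e)
  have cc : ∀ x ∈ D, Commute c x := fun x hx => Subgroup.mem_centralizer_iff.mp hx c hcZ
  let cls : Fin 3 → A := ![i, j, i * j]
  have hclsE : ∀ k, cls k ∈ E := Fin.forall_fin_succ.mpr ⟨hi, Fin.forall_fin_two.mpr ⟨hj, mul_mem hi hj⟩⟩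
  have hclsQ : ∀ k, cls k * cls k = c :=
    Fin.forall_fin_succ.mpr ⟨hQ.ii, Fin.forall_fin_two.mpr ⟨hQ.jj, hQ.kk⟩⟩
  have hclsmem : ∀ r ∈ ({i, j, i * j} : Set A), ∃ l, cls l = r := by
    rintro r (rfl | rfl | rfl)
    exacts [⟨0, rfl⟩, ⟨1, rfl⟩, ⟨2, rfl⟩]
  have hnc' : ∀ k l, k ≠ l → ¬ Commute (cls k) (cls l) := by
    have n1 : ¬ Commute i (i * j) := fun e => hQ.not_comm (by
      have := ((Commute.refl i).inv_right.mul_right e)
      rwa [inv_mul_cancel_left] at this)
    have n2 : ¬ Commute j (i * j) := fun e => hQ.not_comm (by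
      have := e.mul_right (Commute.refl j).inv_right
      rw [mul_inv_cancel_right] at this
      exact this.symm)
    intro k l hkl
    fin_cases k <;> fin_cases l <;> first
      | exact absurd rfl hkl
      | exact hQ.not_comm
      | exact n1
      | exact n2
      | exact fun e => hQ.not_comm e.symm
      | exact fun e => n1 e.symm
      | exact fun e => n2 e.symm
  have huniq : ∀ {x : A} {k l}, (x = cls k ∨ x = c * cls k) → (x = cls l ∨ x = c * cls l) → k = l := by
    intro x k l h1 h2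
    by_contra hne
    apply hnc' k l hne
    have e : cls l = cls k ∨ cls l = c * cls k := by
      rcases h1 with h1 | h1 <;> rcases h2 with h2 | h2
      · exact Or.inl (h2.symm.trans h1)
      · exact Or.inr (by rw [← h1, h2, ← mul_assoc, hQ.sq, one_mul])
      · exact Or.inr (h2.symm.trans h1)
      · exact Or.inl (mul_left_cancel (h2.symm.trans h1))
    rcases e with e | e <;> rw [e]
    exact ((cc _ (hED (hclsE k))).symm).mul_right (Commute.refl _)
  have hperm : ∀ g k, ∃ l, g * cls k * g⁻¹ = cls l ∨ g * cls k * g⁻¹ = c * cls l := by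
    intro g k
    have h4 : (g * cls k * g⁻¹) ^ 2 ^ 2 = 1 := by
      rw [show (2:ℕ) ^ 2 = 2 * 2 by rfl, pow_mul, sq (g * cls k * g⁻¹), conj_mul, hclsQ, hcfix, sq, hQ.sq]
    obtain ⟨q, hq, h'⟩ := h.mem_quaternion h2p hEZ hEE hQ hi hj hcZ (hEn.conj_mem _ (hclsE k) g) h4
    rcases hq with rfl | hq
    · exfalso
      apply hQ.ne
      have e1 : (g * cls k * g⁻¹) * (g * cls k * g⁻¹) = c := by rw [conj_mul, hclsQ, hcfix]
      rcases h' with h' | h'
      · rw [h', one_mul] at e1; exact e1.symm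
      · rw [h', mul_one, hQ.sq] at e1; exact e1.symm
    · obtain ⟨l, rfl⟩ := hclsmem q hq
      exact ⟨l, h'⟩
  choose s hs using hperm
  have hs_mul : ∀ g g' k, s (g * g') k = s g (s g' k) := by
    intro g g' k
    refine huniq (hs (g * g') k) ?_
    have e : g * g' * cls k * (g * g')⁻¹ = g * (g' * cls k * g'⁻¹) * g⁻¹ := by group
    rw [e]
    rcases hs g' k with h1 | h1
    · rw [h1]; exact hs g _
    · rw [h1, show g * (c * cls (s g' k)) * g⁻¹ = (g * c * g⁻¹) * (g * cls (s g' k) * g⁻¹) by group, hcfix]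
      rcases hs g (s g' k) with h2 | h2
      · right; rw [h2]
      · left; rw [h2, ← mul_assoc, hQ.sq, one_mul]
  have hs_one : ∀ k, s 1 k = k := fun k => huniq (hs 1 k) (Or.inl (by group))
  let σ : A →* Equiv.Perm (Fin 3) :=
    { toFun := fun g => ⟨s g, s g⁻¹, fun k => by rw [← hs_mul, inv_mul_cancel, hs_one],
        fun k => by rw [← hs_mul, mul_inv_cancel, hs_one]⟩
      map_one' := Equiv.ext hs_one
      map_mul' := fun g g' => Equiv.ext (hs_mul g g') }
  -- the common centraliser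
  set R := Subgroup.centralizer ({i, j} : Set A) ⊓ D with hR
  have hRcls : ∀ r ∈ R, ∀ k, Commute r (cls k) := by
    intro r hr
    have h1 : Commute r i := (Subgroup.mem_centralizer_iff.mp hr.1 i (by simp)).symm
    have h2 : Commute r j := (Subgroup.mem_centralizer_iff.mp hr.1 j (by simp)).symm
    exact Fin.forall_fin_succ.mpr ⟨h1, Fin.forall_fin_two.mpr ⟨h2, h1.mul_right h2⟩⟩
  have hRn : R.Normal := by
    refine ⟨fun r hr g => ⟨?_, (inferInstance : D.Normal).conj_mem r hr.2 g⟩⟩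
    show _ ∈ Subgroup.centralizer _
    rw [Subgroup.mem_centralizer_iff]
    intro x hx
    obtain ⟨k, rfl⟩ : ∃ k, cls k = x := hclsmem x (by rcases hx with rfl | rfl <;> simp)
    have h1 : Commute r (g⁻¹ * cls k * g) := by
      have := hs g⁻¹ k
      rw [inv_inv] at this
      rcases this with e | e <;> rw [e]
      · exact hRcls r hr _
      · exact (cc r hr.2).symm.mul_right (hRcls r hr _)
    have h2 : Commute (g * r * g⁻¹) (cls k) := by
      have := (h1.conj g)
      rwa [show g * (g⁻¹ * cls k * g) * g⁻¹ = cls k by group] at this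
    exact h2.symm.eq
  have hRZ : R ≤ Z := by
    by_contra hRZ
    obtain ⟨-, E', -, hE'R, -, -, i', hi', j', hj', c', hc'Z, hQ'⟩ := hpair R hRn inf_le_right hRZ
    have hcc : c' = c := h.eq_of_sq_eq_one h2p hQ'.sq hQ.sq (hZc c' hc'Z c hcZ) hQ'.ne hQ.ne
    rw [hcc] at hQ'
    have hii : Commute i i' := ((hRcls i' (hE'R hi') 0)).symm
    have h1 : (i * i') * (i * i') = 1 := by
      rw [← sq, hii.mul_pow, sq, sq, hQ.ii, hQ'.ii, hQ.sq]
    have hij' : Commute i' j := hRcls i' (hE'R hi') 1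
    apply hQ.not_comm
    by_cases h2 : i * i' = 1
    · rw [show i = i'⁻¹ from eq_inv_of_mul_eq_one_left h2]
      exact hij'.inv_left
    · have h3 := h.eq_of_sq_eq_one h2p h1 hQ.sq
        ((hQ.comm_i.symm).mul_left hQ'.comm_i.symm) h2 hQ.ne
      rw [show i = c * i'⁻¹ by rw [← h3]; group]
      exact hQ.comm_j.mul_left hij'.inv_left
  -- elements of `D` fixing the three classes have order prime to `p`
  have hker : ∀ g ∈ D, σ g = 1 → ¬ p ∣ orderOf g := by
    intro g hg hσ
    have hfix : ∀ k, g * cls k * g⁻¹ = cls k ∨ g * cls k * g⁻¹ = c * cls k := fun k => by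
      have : s g k = k := congrFun (congrArg (fun e : Equiv.Perm (Fin 3) => (e : Fin 3 → Fin 3)) hσ) k
      simpa [this] using hs g k
    have hij : i * j * i⁻¹ = c * j := by
      have e : i * j = c * (j * i) := by rw [hQ.ji, ← mul_assoc, hQ.sq, one_mul]
      rw [e]; group
    have hji : j * i * j⁻¹ = c * i := by rw [hQ.ji]; group
    have h4 : ∀ x : A, x * x = c → x ^ 4 = 1 := fun x hx => by
      rw [show 4 = 2 * 2 by rfl, pow_mul, sq x, hx, sq, hQ.sq]
    obtain ⟨q, hq, hq4, hqi, hqj⟩ : ∃ q ∈ E, q ^ 4 = 1 ∧ g * q * i * (g * q)⁻¹ = i ∧ g * q * j * (g * q)⁻¹ = j := by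
      have comb : ∀ (q x : A), (q * x * q⁻¹ = x ∧ g * x * g⁻¹ = x) ∨
          (q * x * q⁻¹ = c * x ∧ g * x * g⁻¹ = c * x) → g * q * x * (g * q)⁻¹ = x := by
        rintro q x (⟨h1, h2⟩ | ⟨h1, h2⟩)
        · calc g * q * x * (g * q)⁻¹ = g * (q * x * q⁻¹) * g⁻¹ := by group
            _ = x := by rw [h1, h2]
        · calc g * q * x * (g * q)⁻¹ = g * (q * x * q⁻¹) * g⁻¹ := by group
            _ = (g * c * g⁻¹) * (g * x * g⁻¹) := by rw [h1]; group
            _ = x := by rw [hcfix, h2, ← mul_assoc, hQ.sq, one_mul]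
      rcases hfix 0 with a0 | a0 <;> rcases hfix 1 with a1 | a1
      · exact ⟨1, one_mem _, one_pow _, comb 1 i (Or.inl ⟨by group, a0⟩), comb 1 j (Or.inl ⟨by group, a1⟩)⟩
      · exact ⟨i, hi, h4 i hQ.ii, comb i i (Or.inl ⟨by group, a0⟩), comb i j (Or.inr ⟨hij, a1⟩)⟩
      · exact ⟨j, hj, h4 j hQ.jj, comb j i (Or.inr ⟨hji, a0⟩), comb j j (Or.inl ⟨by group, a1⟩)⟩
      · refine ⟨i * j, mul_mem hi hj, h4 _ hQ.kk, comb _ i (Or.inr ⟨?_, a0⟩), comb _ j (Or.inr ⟨?_, a1⟩)⟩
        · calc i * j * i * (i * j)⁻¹ = i * (j * i * j⁻¹) * i⁻¹ := by group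
            _ = c * i := by rw [hji, ← mul_assoc, ← hQ.comm_i.eq]; group
        · calc i * j * j * (i * j)⁻¹ = i * j * i⁻¹ := by group
            _ = c * j := hij
    have hz : g * q ∈ Z := hRZ ⟨by
      show _ ∈ Subgroup.centralizer _
      rw [Subgroup.mem_centralizer_iff]
      rintro x (rfl | rfl)
      · exact (mul_inv_eq_iff_eq_mul.mp hqi).symm
      · exact (mul_inv_eq_iff_eq_mul.mp hqj).symm, mul_mem hg (hED hq)⟩
    intro hdvd
    have hcomm : Commute (g * q) q⁻¹ := (show Commute q (g * q) from hEZ q hq _ hz).symm.inv_right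
    have hdd := hcomm.orderOf_mul_dvd_mul_orderOf
    rw [mul_inv_cancel_right, orderOf_inv] at hdd
    rcases h.prime.dvd_mul.mp (hdvd.trans hdd) with h1 | h1
    · exact h.pGroup_not hZc hz h1
    · exact h.not_dvd_of_pow Nat.prime_two h2p (m := 2) (by rw [show (2:ℕ) ^ 2 = 4 by rfl, hq4]) h1
  intro hdvd
  set b := a ^ (orderOf a / p) with hbdef
  have hb : orderOf b = p := orderOf_pow_orderOf_div (orderOf_pos a).ne' hdvd
  have hbA : b ∈ commutator A := pow_mem ha _
  have hσb : σ b ≠ 1 := fun e => hker b (hAD hbA) e (by rw [hb])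
  have hp3 : p = 3 := by
    have h1 : orderOf (σ b) ∣ p := hb ▸ orderOf_map_dvd σ b
    rcases h.prime.eq_one_or_self_of_dvd _ h1 with h1 | h1
    · exact absurd (orderOf_eq_one_iff.mp h1) hσb
    · have h2 : p ∣ 6 := by
        have := orderOf_dvd_natCard (σ b)
        rw [h1, Nat.card_eq_fintype_card, Fintype.card_perm, Fintype.card_fin] at this
        exact this
      have h3 := h.prime.two_le
      have h4 := Nat.le_of_dvd (by norm_num) h2
      interval_cases p
      · exact absurd rfl h2p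
      · rfl
      all_goals first | omega | exact absurd h.prime (by decide)
  obtain ⟨g₀, hg₀⟩ : ∃ g, Equiv.Perm.sign (σ g) ≠ 1 := by
    by_contra hcon
    push Not at hcon
    have hA3 : ∀ x y : Equiv.Perm (Fin 3), Equiv.Perm.sign x = 1 → Equiv.Perm.sign y = 1 → x * y = y * x := by
      decide
    have hle : commutator A ≤ σ.ker := by
      rw [commutator_def, Subgroup.commutator_le]
      intro x _ y _
      rw [MonoidHom.mem_ker]
      show σ (x * y * x⁻¹ * y⁻¹) = 1
      rw [map_mul, map_mul, map_mul, map_inv, map_inv, hA3 _ _ (hcon x) (hcon y)]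
      group
    exact hσb (hle hbA)
  -- the action is that of a group of order `8 * 3 ^ k`
  have hcard9 : Nat.card N = 9 := h.card_eq_nine hp3 hQ fun g q hq => by
    obtain ⟨k, rfl⟩ : ∃ k, cls k = q := hclsmem q (by rcases hq with rfl | rfl <;> simp)
    refine ⟨cls (s g⁻¹ k), ?_, by simpa [inv_inv] using hs g⁻¹ k⟩
    generalize s g⁻¹ k = l
    fin_cases l <;> simp [cls]
  have hji : j * i * j⁻¹ = c * i := by rw [hQ.ji]; group
  have hij : i * j * i⁻¹ = c * j := by
    have e : i * j = c * (j * i) := by rw [hQ.ji, ← mul_assoc, hQ.sq, one_mul]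
    rw [e]; group
  have hi4 : i ^ 4 = 1 := by rw [show 4 = 2 * 2 by rfl, pow_mul, sq i, hQ.ii, sq, hQ.sq]
  have hswap : ∀ a b : ℕ, j ^ b * i ^ a = i ^ (2 * (b * a) + a) * j ^ b := by
    intro a b
    have e := conj_pow_right (conj_pow_left hji hQ.comm_j b) (hQ.comm_i.pow_left b) a
    rw [mul_inv_eq_iff_eq_mul] at e
    rw [e, pow_add, pow_mul i 2, sq i, hQ.ii, pow_mul]
  let S : Submonoid A :=
    { carrier := {x | ∃ a b : ℕ, x = i ^ a * j ^ b}
      one_mem' := ⟨0, 0, by simp⟩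
      mul_mem' := by
        rintro _ _ ⟨a, b, rfl⟩ ⟨a', b', rfl⟩
        exact ⟨a + (2 * (b * a') + a'), b + b', by
          rw [pow_add, pow_add j]
          calc i ^ a * j ^ b * (i ^ a' * j ^ b') = i ^ a * (j ^ b * i ^ a') * j ^ b' := by group
            _ = _ := by rw [hswap]; simp only [mul_assoc]⟩ }
  let Q : Subgroup A :=
    { S with
      inv_mem' := fun {x} hx => by
        rw [show x⁻¹ = x ^ (orderOf x - 1) from inv_eq_of_mul_eq_one_right (by
          rw [← pow_succ', Nat.sub_add_cancel (orderOf_pos x), pow_orderOf_eq_one])]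
        exact S.pow_mem hx _ }
  have hmod : ∀ a, i ^ a = i ^ (a % 4) := fun a => by
    conv_lhs => rw [← Nat.div_add_mod a 4, pow_add, pow_mul, hi4, one_pow, one_mul]
  have hio : orderOf i = 4 := orderOf_eq_prime_pow (p := 2) (n := 1)
    (by rw [pow_one, sq, hQ.ii]; exact hQ.ne) hi4
  have hjnot : ∀ a : ℕ, i ^ a ≠ j := fun a e => hQ.not_comm (e ▸ (Commute.refl i).pow_right a)
  have hQ8 : Nat.card Q = 8 := by
    let f : Fin 4 × Fin 2 → Q := fun ab => ⟨i ^ (ab.1 : ℕ) * j ^ (ab.2 : ℕ), _, _, rfl⟩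
    have hinj : ∀ a a' : ℕ, i ^ a * j = i ^ a' → False := fun a a' e => hjnot (3 * a + a') (by
      rw [pow_add, ← e, ← mul_assoc, ← pow_add, show 3 * a + a = 4 * a by ring, pow_mul, hi4,
        one_pow, one_mul])
    have hf : Function.Bijective f := by
      refine ⟨?_, ?_⟩
      · rintro ⟨a, b⟩ ⟨a', b'⟩ e
        have e' : i ^ (a : ℕ) * j ^ (b : ℕ) = i ^ (a' : ℕ) * j ^ (b' : ℕ) := congrArg Subtype.val e
        fin_cases b <;> fin_cases b'
        · simp only [pow_zero, mul_one] at e'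
          exact Prod.ext (Fin.ext (pow_injOn_Iio_orderOf (by rw [Set.mem_Iio, hio]; exact a.2)
            (by rw [Set.mem_Iio, hio]; exact a'.2) e')) rfl
        · simp only [pow_zero, mul_one, pow_one] at e'
          exact (hinj a' a e'.symm).elim
        · simp only [pow_zero, mul_one, pow_one] at e'
          exact (hinj a a' e').elim
        · simp only [pow_one] at e'
          exact Prod.ext (Fin.ext (pow_injOn_Iio_orderOf (by rw [Set.mem_Iio, hio]; exact a.2)
            (by rw [Set.mem_Iio, hio]; exact a'.2) (mul_right_cancel e'))) rfl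
      · rintro ⟨x, a, b, rfl⟩
        refine ⟨(⟨(a + 2 * (b / 2)) % 4, Nat.mod_lt _ (by norm_num)⟩, ⟨b % 2, Nat.mod_lt _ (by norm_num)⟩),
          Subtype.ext ?_⟩
        simp only [f]
        rw [← hmod, pow_add, pow_mul i 2, sq i, hQ.ii, ← hQ.jj, ← sq, ← pow_mul, mul_assoc, ← pow_add,
          Nat.div_add_mod]
    rw [← Nat.card_congr (Equiv.ofBijective f hf)]
    simp
  have hσ1 : ∀ x : A, (∀ k, x * cls k * x⁻¹ = cls k ∨ x * cls k * x⁻¹ = c * cls k) → σ x = 1 :=
    fun x hx => Equiv.ext fun k => huniq (hs x k) (hx k)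
  have hσi : σ i = 1 := hσ1 i (Fin.forall_fin_succ.mpr ⟨Or.inl (mul_inv_cancel_right i i),
    Fin.forall_fin_two.mpr ⟨Or.inr hij, Or.inr (by
      show i * (i * j) * i⁻¹ = c * (i * j)
      rw [mul_assoc i (i * j), hij, ← mul_assoc, ← hQ.comm_i.eq, mul_assoc])⟩⟩)
  have hσj : σ j = 1 := hσ1 j (Fin.forall_fin_succ.mpr ⟨Or.inr hji,
    Fin.forall_fin_two.mpr ⟨Or.inl (mul_inv_cancel_right j j), Or.inr (by
      show j * (i * j) * j⁻¹ = c * (i * j)
      rw [show j * (i * j) * j⁻¹ = j * i by group, hQ.ji])⟩⟩)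
  have hQker : Q ≤ σ.ker := by
    rintro _ ⟨a, b, rfl⟩
    rw [MonoidHom.mem_ker, map_mul, map_pow, map_pow, hσi, hσj, one_pow, one_pow, one_mul]
  have h16 : 16 ∣ Nat.card A := by
    have h8 : 8 ∣ Nat.card σ.ker := hQ8 ▸ Subgroup.card_dvd_of_le hQker
    have h2 : 2 ∣ Nat.card σ.range := by
      refine dvd_trans ?_ (Subgroup.orderOf_dvd_natCard _ (MonoidHom.mem_range.mpr ⟨g₀, rfl⟩))
      refine dvd_trans ?_ (orderOf_map_dvd Equiv.Perm.sign (σ g₀))
      rcases Int.units_eq_one_or (Equiv.Perm.sign (σ g₀)) with e | e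
      · exact absurd e hg₀
      · rw [e]
        rw [orderOf_eq_prime (p := 2) (x := (-1 : ℤˣ)) (by decide) (by decide)]
    rw [← Subgroup.index_mul_card σ.ker, Subgroup.index_ker]
    simpa [mul_comm] using mul_dvd_mul h2 h8
  let act : MulAction A N := MulAction.compHom N φ
  have := h.nontriv
  obtain ⟨x, hx⟩ := exists_ne (1 : N)
  have horb : MulAction.orbit A x = {y | y ≠ 1} := by
    ext y
    refine ⟨?_, fun hy => h.trans x y hx hy⟩
    rintro ⟨g, rfl⟩ e
    exact hx ((φ g).injective (e.trans (map_one (φ g)).symm))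
  have hst : IsPGroup p (MulAction.stabilizer A x) := fun g => by
    obtain ⟨k, hk⟩ := h.stab g x hx g.2
    exact ⟨k, Subtype.ext (by simpa using hk)⟩
  obtain ⟨k, hk⟩ := IsPGroup.iff_card.mp hst
  have hA : Nat.card A = 8 * 3 ^ k := by
    rw [← Subgroup.index_mul_card (MulAction.stabilizer A x), MulAction.index_stabilizer, horb, hk, hp3]
    congr 1
    rw [show {y : N | y ≠ 1} = ({1} : Set N)ᶜ from rfl, Set.ncard_compl, Set.ncard_singleton, hcard9]
  rw [hA, show 16 = 8 * 2 by rfl] at h16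
  have := Nat.prime_two.dvd_of_dvd_pow (Nat.dvd_of_mul_dvd_mul_left (by norm_num) h16)
  omega

end TransSetting

end CfsgLib.Gagola
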